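import Groth.Agent.DescentBase.BigCart.Fppf
import Groth.Agent.S7198

/-!
# Topologies between the étale one and descent of sheaves determined by geometric points

`Adm K`: étale coverings are `K`-coverings, sheaves determined by geometric points are `K`-sheaves,
and an étale sheaf with injective restrictions along finite surjective morphisms is `K`-separated.
Instances: fppf, and the topology `finEtPrecoverage` generated by étale coverings and finite
surjective morphisms.
-/

set_option autoImplicit false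
set_option backward.isDefEq.respectTransparency.types false

universe u

open CategoryTheory CategoryTheory.Limits AlgebraicGeometry Opposite

namespace Groth.DescentBase.BigCart

/-- An étale sheaf with injective restrictions along finite surjective morphisms. -/
def FinInj {S : Scheme.{u}} (L : AbB S) : Prop :=
  ∀ {C D : Over S} (g : D ⟶ C), IsFinite g.left → Surjective g.left →
    ∀ s : L.obj.obj (op C), L.obj.map g.op s = 0 → s = 0

/-- The properties of a topology used for the comparison with the étale topology. -/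
class Adm (K : Precoverage Scheme.{u}) : Prop where
  le : Scheme.etalePrecoverage ≤ K
  isSheaf : ∀ {S : Scheme.{u}} {G : AbB S}, IsCart G → Presheaf.IsSheaf (QuotSh.J K S) G.obj
  sep : ∀ {S : Scheme.{u}} {L : AbB S}, FinInj L → ∀ (C : Over S) (R : Sieve C),
    R ∈ QuotSh.J K S C → ∀ s : L.obj.obj (op C),
      (∀ ⦃V : Over S⦄ (g : V ⟶ C), R g → L.obj.map g.op s = 0) → s = 0

instance epsCont_of_adm (K : Precoverage Scheme.{u}) [Adm K] (S : Scheme.{u}) :
    BigSite.EpsCont Scheme.etalePrecoverage K S :=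
  BigSite.epsCont_of_le Adm.le S

instance aEtCont_of_adm (K : Precoverage Scheme.{u}) [Adm K] (S : Scheme.{u}) : BigSite.AEtCont K S :=
  BigSite.aEtCont_of_le Adm.le S

section fppf

lemma sep_fppf {S : Scheme.{u}} {L : AbB S} (hL : FinInj L) (C : Over S) (R : Sieve C)
    (hR : R ∈ QuotSh.J Scheme.fppfPrecoverage S C) (s : L.obj.obj (op C))
    (hs : ∀ ⦃V : Over S⦄ (g : V ⟶ C), R g → L.obj.map g.op s = 0) : s = 0 := by
  rw [GrothendieckTopology.mem_over_iff] at hR
  have hR' : Sieve.overEquiv C R ∈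
      Scheme.grothendieckTopology (@Flat ⊓ @LocallyOfFinitePresentation) C.left := hR
  have : (@Flat ⊓ @LocallyOfFinitePresentation : MorphismProperty Scheme.{u}).IsMultiplicative :=
    { id_mem := fun X => ⟨inferInstanceAs (Flat (𝟙 X)), inferInstanceAs (LocallyOfFinitePresentation (𝟙 X))⟩ }
  rw [Scheme.mem_grothendieckTopology_iff] at hR'
  obtain ⟨𝒰, hle⟩ := hR'
  refine eq_zero_of_locally L s fun x => ?_
  obtain ⟨U, W, π, hxU, hπ, hπs, htower⟩ := Groth.Agent.S7198.result 𝒰.toPreZeroHypercover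
    (fun i => (𝒰.map_prop i).1) (fun i => (𝒰.map_prop i).2) 𝒰.exists_eq x
  let oU : Over.mk (U.ι ≫ C.hom) ⟶ C := etHom C U.ι
  refine ⟨_, oU, (inferInstanceAs (Etale U.ι)), ⟨⟨x, hxU⟩, rfl⟩, ?_⟩
  let gπ : Over.mk (π ≫ U.ι ≫ C.hom) ⟶ Over.mk (U.ι ≫ C.hom) := Over.homMk π
  refine hL gπ hπ.1 hπs _ (eq_zero_of_locally L _ fun w => ?_)
  obtain ⟨W', T, ρ, i, r, hw, hρ, hρs, hfac⟩ := htower w
  let oW : Over.mk (W'.ι ≫ π ≫ U.ι ≫ C.hom) ⟶ Over.mk (π ≫ U.ι ≫ C.hom) := Over.homMk W'.ι
  let gρ : Over.mk (ρ ≫ W'.ι ≫ π ≫ U.ι ≫ C.hom) ⟶ Over.mk (W'.ι ≫ π ≫ U.ι ≫ C.hom) := Over.homMk ρ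
  refine ⟨_, oW, (inferInstanceAs (Etale W'.ι)), ⟨⟨w, hw⟩, rfl⟩, hL gρ hρ.1 hρs _ ?_⟩
  let a : Over.mk (ρ ≫ W'.ι ≫ π ≫ U.ι ≫ C.hom) ⟶ Over.mk (𝒰.f i ≫ C.hom) := Over.homMk r (by
    show r ≫ 𝒰.f i ≫ C.hom = ρ ≫ W'.ι ≫ π ≫ U.ι ≫ C.hom
    rw [reassoc_of% hfac])
  have hcomp : gρ ≫ oW ≫ gπ ≫ oU = a ≫ etHom C (𝒰.f i) :=
    Over.OverMorphism.ext hfac.symm
  have hmem : R (etHom C (𝒰.f i)) :=
    (Sieve.overEquiv_iff R (𝒰.f i)).1 (hle _ _ (Presieve.ofArrows.mk i))
  have h0 := hs (gρ ≫ oW ≫ gπ ≫ oU) (hcomp ▸ R.downward_closed hmem a)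
  simp only [op_comp, Functor.map_comp, ConcreteCategory.comp_apply] at h0
  exact h0

instance adm_fppf : Adm Scheme.fppfPrecoverage.{u} where
  le := BigSite.etalePrecoverage_le_fppfPrecoverage
  isSheaf hG := isSheaf_mono (BigSite.J_mono Scheme.fppfPrecoverage_le_fpqcPrecoverage _) _
    hG.isSheaf_fpqc
  sep hL := sep_fppf hL

end fppf

section finEt

/-- Étale coverings together with finite surjective morphisms. -/
def finEtPrecoverage : Precoverage Scheme.{u} where
  coverings X := {R | R ∈ Scheme.etalePrecoverage X ∨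
    ∃ (W : Scheme.{u}) (w : W ⟶ X), IsFinite w ∧ Surjective w ∧ R = Presieve.singleton w}

lemma singleton_mem_finEt {W X : Scheme.{u}} (w : W ⟶ X) [hw : IsFinite w] [hs : Surjective w] :
    Presieve.singleton w ∈ finEtPrecoverage X :=
  Or.inr ⟨W, w, hw, hs, rfl⟩

variable {S : Scheme.{u}}

/-- A single finite surjective morphism as a family. -/
abbrev finFamily {W X : Scheme.{u}} (w : W ⟶ X) : PreZeroHypercover.{u} X :=
  PreZeroHypercover.singleton w

lemma isOpen_of_finite {W X X' : Scheme.{u}} (w : W ⟶ X) [IsFinite w] [Surjective w] (q : X' ⟶ X)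
    (O : Set X') (hO : IsOpen ((pullback.fst q w).base ⁻¹' O)) : IsOpen O := by
  have h1 : IsFinite (pullback.fst q w) := MorphismProperty.pullback_fst _ _ ‹_›
  have h2 : Surjective (pullback.fst q w) := MorphismProperty.pullback_fst _ _ ‹_›
  have h := (pullback.fst q w).isClosedMap.isQuotientMap (pullback.fst q w).continuous h2.surj
  exact h.isOpen_preimage.1 hO

/-- The preimage of a sieve under an object of the big site. -/
abbrev sieveOn {X : Scheme.{u}} (R : Sieve X) (C : Over S) (f : C.left ⟶ X) : Sieve C :=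
  (Sieve.overEquiv C).symm (R.pullback f)

lemma mem_sieveOn {X : Scheme.{u}} (R : Sieve X) (C : Over S) (f : C.left ⟶ X) {V : Over S}
    (g : V ⟶ C) : sieveOn R C f g ↔ R (g.left ≫ f) :=
  Sieve.overEquiv_symm_iff _ _

lemma pullback_sieveOn {X : Scheme.{u}} (R : Sieve X) {C D : Over S} (f : C.left ⟶ X) (g : D ⟶ C) :
    (sieveOn R C f).pullback g = sieveOn R D (g.left ≫ f) := by
  ext V k
  rw [Sieve.pullback_apply, mem_sieveOn, mem_sieveOn, Over.comp_left, Category.assoc]

lemma isSheafFor_of_mem_finEt {G : AbB S} (hG : IsCart G) {X : Scheme.{u}} (P : Presieve X)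
    (hP : P ∈ finEtPrecoverage X) (C : Over S) (f : C.left ⟶ X) :
    Presieve.IsSheafFor (G.obj ⋙ forget AddCommGrpCat.{u + 1}) (sieveOn (Sieve.generate P) C f).arrows := by
  rcases hP with hP | ⟨W, w, hw, hs, rfl⟩
  · refine ((isSheaf_iff_isSheaf_of_type _ _).1
      ((sheafCompose (J S) (forget AddCommGrpCat.{u + 1})).obj G).2) _ ?_
    exact GrothendieckTopology.overEquiv_symm_mem_over _ _ _
      ((Scheme.etaleTopology).pullback_stable f (Precoverage.generate_mem_toGrothendieck hP))
  · have hp : IsFinite (pullback.fst f w) := MorphismProperty.pullback_fst _ _ hw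
    have hps : Surjective (pullback.fst f w) := MorphismProperty.pullback_fst _ _ hs
    refine hG.isSheafFor_of_openDetect _ (finFamily (pullback.fst f w)) (fun i => ?_) (fun y => ?_)
      (fun q O hO => isOpen_of_finite (pullback.fst f w) q O (hO PUnit.unit))
    · rw [mem_sieveOn]
      exact ⟨_, pullback.snd f w, w, Presieve.singleton_self w, pullback.condition.symm⟩
    · exact ⟨PUnit.unit, hps.surj y⟩

lemma sheaf_finEt {G : AbB S} (hG : IsCart G) :
    Presheaf.IsSheaf (QuotSh.J finEtPrecoverage S) G.obj := by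
  rw [Presheaf.isSheaf_iff_isSheaf_forget _ _ (forget AddCommGrpCat.{u + 1}),
    isSheaf_iff_isSheaf_of_type]
  let P := G.obj ⋙ forget AddCommGrpCat.{u + 1}
  have key : ∀ (X : Scheme.{u}) (R : Sieve X), R ∈ finEtPrecoverage.toGrothendieck X →
      ∀ (C : Over S) (f : C.left ⟶ X), sieveOn R C f ∈ Sheaf.finestTopologySingle P C := by
    intro X R hR
    induction hR with
    | of X R₀ h0 =>
      intro C f D g
      rw [pullback_sieveOn]
      exact isSheafFor_of_mem_finEt hG R₀ h0 D _
    | top X =>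
      intro C f
      convert (Sheaf.finestTopologySingle P).top_mem C
      ext V g
      rw [mem_sieveOn]
      simp
    | pullback X R _ Y q ih =>
      intro C f
      convert ih C (f ≫ q) using 1
      ext V g
      rw [mem_sieveOn, mem_sieveOn, Sieve.pullback_apply, Category.assoc]
    | transitive X R R' _ _ ih₁ ih₂ =>
      intro C f
      refine (Sheaf.finestTopologySingle P).transitive (ih₁ C f) _ fun D g hg => ?_
      rw [mem_sieveOn] at hg
      convert ih₂ hg D (𝟙 _) using 1
      ext V k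
      rw [Sieve.pullback_apply, mem_sieveOn, mem_sieveOn, Sieve.pullback_apply, Over.comp_left,
        Category.assoc, Category.comp_id]
  intro C R hR
  rw [GrothendieckTopology.mem_over_iff] at hR
  have := key _ _ hR C (𝟙 _) C (𝟙 C)
  rw [Sieve.pullback_id] at this
  convert this using 2
  ext V g
  rw [mem_sieveOn, Category.comp_id, ← Sieve.overEquiv_symm_iff (Sieve.overEquiv C R) g]
  exact iff_of_eq (congrArg (fun T : Sieve C => T.arrows g) ((Sieve.overEquiv C).symm_apply_apply R).symm)

lemma sep_finEt {L : AbB S} (hL : FinInj L) (C : Over S) (R : Sieve C)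
    (hR : R ∈ QuotSh.J finEtPrecoverage S C) (s : L.obj.obj (op C))
    (hs : ∀ ⦃V : Over S⦄ (g : V ⟶ C), R g → L.obj.map g.op s = 0) : s = 0 := by
  have key : ∀ (X : Scheme.{u}) (T : Sieve X), T ∈ finEtPrecoverage.toGrothendieck X →
      ∀ (C : Over S) (f : C.left ⟶ X) (s : L.obj.obj (op C)),
        (∀ ⦃V : Over S⦄ (g : V ⟶ C), T (g.left ≫ f) → L.obj.map g.op s = 0) → s = 0 := by
    intro X T hT
    induction hT with
    | of X R₀ h0 =>
      intro C f s hs
      rcases h0 with h0 | ⟨W, w, hw, hsw, rfl⟩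
      · refine eq_of_cover L (sieveOn (Sieve.generate R₀) C f) ?_ fun V g hg => ?_
        · exact GrothendieckTopology.overEquiv_symm_mem_over _ _ _
            ((Scheme.etaleTopology).pullback_stable f (Precoverage.generate_mem_toGrothendieck h0))
        · exact (hs g ((mem_sieveOn _ _ _ g).1 hg)).trans (map_zero _).symm
      · refine hL (etHom C (pullback.fst f w)) (MorphismProperty.pullback_fst _ _ hw)
          (MorphismProperty.pullback_fst _ _ hsw) s (hs _ ?_)
        exact ⟨_, pullback.snd f w, w, Presieve.singleton_self w, pullback.condition.symm⟩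
    | top X => exact fun C f s hs => by simpa using hs (𝟙 C) trivial
    | pullback X R _ Y q ih =>
      exact fun C f s hs => ih C (f ≫ q) s fun V g hg => hs g (by simpa using hg)
    | transitive X R R' _ _ ih₁ ih₂ =>
      intro C f s hs
      refine ih₁ C f s fun V g hg => ih₂ hg V (𝟙 _) _ fun U k hk => ?_
      have hk' : R' ((k ≫ g).left ≫ f) := by simpa using hk
      have := hs (k ≫ g) hk'
      rwa [op_comp, Functor.map_comp, ConcreteCategory.comp_apply] at this
  rw [GrothendieckTopology.mem_over_iff] at hR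
  refine key _ _ hR C (𝟙 _) s fun V g hg => hs g ?_
  rw [Category.comp_id] at hg
  have e : Over.homMk g.left (Over.w g) = g := Over.OverMorphism.ext rfl
  have := (Sieve.overEquiv_symm_iff (Sieve.overEquiv C R) g).2 hg
  simpa using this

instance adm_finEt : Adm finEtPrecoverage.{u} where
  le := fun _ _ h => Or.inl h
  isSheaf hG := sheaf_finEt hG
  sep hL := sep_finEt hL

end finEt

end Groth.DescentBase.BigCart
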