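import Groth.Agent.DescentBase.BigCart.Fppf
import Groth.Agent.HTopHyper.VSubmersive
import Groth.Agent.HTopHyper.Coverings
import Groth.Prelude.Def_HTop

/-!
# Sheaves determined by geometric points are sheaves for the V topology
-/

set_option autoImplicit false
set_option backward.isDefEq.respectTransparency.types false

universe u

open CategoryTheory CategoryTheory.Limits AlgebraicGeometry Opposite

namespace Groth.DescentBase.BigCart.VTop

variable {T : Scheme.{u}}

/-- Openness is detected by the family after every base change. -/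
def Detects (E : PreZeroHypercover.{u} T) : Prop :=
  ∀ {X' : Scheme.{u}} (q : X' ⟶ T) (O : Set X'),
    (∀ (i : E.I₀) {Z : Scheme.{u}} (a : Z ⟶ X') (b : Z ⟶ E.X i), a ≫ q = b ≫ E.f i →
      IsOpen (a.base ⁻¹' O)) → IsOpen O

/-- A jointly surjective family in the sieve on which openness is detected. -/
def Admissible (R : Sieve T) : Prop :=
  ∃ E : PreZeroHypercover.{u} T, (∀ i, R (E.f i)) ∧
    (∀ t : T, ∃ i, t ∈ Set.range (E.f i).base) ∧ Detects E

lemma admissible_of_univSubmersive (R : Sieve T) (E : PreZeroHypercover.{u} T)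
    (hR : ∀ i, R (E.f i)) (h : SGA1.UnivSubmersive (Sigma.desc E.f)) : Admissible R := by
  refine ⟨E, hR, fun t => ?_, fun {X'} q O hO => ?_⟩
  · have h' := h _ _ (Sigma.desc E.f) (IsPullback.of_id_snd (f := Sigma.desc E.f))
    obtain ⟨z, rfl⟩ := h'.surjective t
    obtain ⟨i, y, rfl⟩ := (sigmaOpenCover E.X).exists_eq z
    refine ⟨i, y, ?_⟩
    exact (congrArg (fun k : E.X i ⟶ T => k.base y) (Sigma.ι_desc E.f i).symm).trans
      (Scheme.Hom.comp_apply _ _ y)
  · let s := Sigma.desc E.f
    have hq := h _ _ (pullback.snd s q) (IsPullback.of_hasPullback s q).flip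
    rw [← hq.isOpen_preimage]
    let 𝒲 := (sigmaOpenCover E.X).pullback₂ (pullback.fst s q)
    rw [(Scheme.OpenCover.isOpenCover_opensRange 𝒲).isOpen_iff_inter]
    intro i
    rw [Scheme.Hom.coe_opensRange, Set.inter_comm, ← Set.image_preimage_eq_range_inter]
    refine (𝒲.f i).isOpenEmbedding.isOpenMap _ ?_
    have h1 := hO i (𝒲.f i ≫ pullback.snd s q) (pullback.fst _ _) (by
      have h2 : 𝒲.f i ≫ pullback.fst s q = pullback.fst _ _ ≫ (sigmaOpenCover E.X).f i :=
        pullback.condition.symm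
      rw [Category.assoc, ← pullback.condition, ← Category.assoc, h2]
      exact (Category.assoc _ _ _).trans
        (congrArg (pullback.fst _ _ ≫ ·) (Sigma.ι_desc E.f i)))
    rw [← Set.preimage_comp]
    exact h1

lemma admissible_generate (S : Presieve T) (hS : S ∈ HTop.vPrecoverage T) :
    Admissible (Sieve.generate S) := by
  rw [HTop.vPrecoverage, PreZeroHypercoverFamily.mem_precoverage_iff] at hS
  obtain ⟨E, hE, rfl⟩ := hS
  choose F hF hr using hE
  choose j k hk using hr
  let E' : PreZeroHypercover.{u} T :=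
    { I₀ := Σ U : T.affineOpens, (F U).I₀
      X := fun p => E.X (j p.1 p.2)
      f := fun p => E.f (j p.1 p.2) }
  refine admissible_of_univSubmersive _ E' (fun p => Sieve.le_generate _ _ _ (Presieve.ofArrows.mk (j p.1 p.2)))
    (Groth.HTopHyper.univSubmersive_sigmaDesc (E := E') fun U => ⟨F U, hF U, fun l => ?_⟩)
  exact ⟨⟨U, l⟩, k U l, hk U l⟩

lemma admissible_top : Admissible (⊤ : Sieve T) :=
  ⟨PreZeroHypercover.singleton (𝟙 T), fun _ => trivial, fun t => ⟨PUnit.unit, t, rfl⟩,
    fun {X'} q O hO => hO PUnit.unit (𝟙 X') q (by simp [PreZeroHypercover.singleton])⟩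

lemma Admissible.pullback {R : Sieve T} (h : Admissible R) {Y : Scheme.{u}} (g : Y ⟶ T) :
    Admissible (R.pullback g) := by
  obtain ⟨E, hR, hp, hd⟩ := h
  refine ⟨E.pullback₁ g, fun i => ?_, fun y => ?_, fun {X'} q O hO => ?_⟩
  · change R (pullback.fst g (E.f i) ≫ g)
    rw [pullback.condition]
    exact R.downward_closed (hR i) _
  · obtain ⟨i, v, hv⟩ := hp (g.base y)
    obtain ⟨z, hz, -⟩ := Scheme.Pullback.exists_preimage_pullback (f := g) (g := E.f i) y v hv.symm
    exact ⟨i, z, hz⟩
  · refine hd (q ≫ g) O fun i {Z} a b hab => ?_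
    exact hO i a (pullback.lift (a ≫ q) b ((Category.assoc _ _ _).trans hab))
      (pullback.lift_fst _ _ _).symm

lemma Admissible.transitive {R R' : Sieve T} (h : Admissible R)
    (h' : ∀ ⦃Y : Scheme.{u}⦄ ⦃g : Y ⟶ T⦄, R g → Admissible (R'.pullback g)) : Admissible R' := by
  obtain ⟨E, hR, hp, hd⟩ := h
  choose F hF hFp hFd using fun i => h' (hR i)
  refine ⟨E.bind F, fun p => hF p.1 p.2, fun t => ?_, fun {X'} q O hO => ?_⟩
  · obtain ⟨i, v, hv⟩ := hp t
    obtain ⟨j, w, hw⟩ := hFp i v
    exact ⟨⟨i, j⟩, w, (Scheme.Hom.comp_apply _ _ w).trans ((congrArg _ hw).trans hv)⟩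
  · refine hd q O fun i {Z} a b hab => ?_
    refine hFd i b _ fun j {W} a' b' hab' => ?_
    have h1 := hO ⟨i, j⟩ (a' ≫ a) b' (by
      rw [Category.assoc, hab]
      exact ((Category.assoc _ _ _).symm.trans (congrArg (· ≫ E.f i) hab')).trans (Category.assoc _ _ _))
    rw [← Set.preimage_comp]
    exact h1

theorem admissible_of_saturate {R : Sieve T} (h : HTop.vPrecoverage.Saturate T R) : Admissible R := by
  induction h with
  | of X S hS => exact admissible_generate S hS
  | top X => exact admissible_top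
  | pullback X S _ Y g ih => exact ih.pullback g
  | transitive X S R _ _ ih ih' => exact ih.transitive ih'

lemma phPrecoverage_le : HTop.phPrecoverage.{u} ≤ HTop.vPrecoverage := by
  intro X S hS
  rw [HTop.phPrecoverage, PreZeroHypercoverFamily.mem_precoverage_iff] at hS
  obtain ⟨E, ⟨-, hE⟩, rfl⟩ := hS
  refine (HTop.presieve₀_mem_vPrecoverage_iff E).2 fun U => ?_
  obtain ⟨F, hF, hr⟩ := hE U
  exact ⟨F, Groth.HTopHyper.isStandardV_of_isStandardPh hF, hr⟩

lemma hPrecoverage_le : HTop.hPrecoverage.{u} ≤ HTop.vPrecoverage := by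
  intro X S hS
  rw [HTop.hPrecoverage, PreZeroHypercoverFamily.mem_precoverage_iff] at hS
  obtain ⟨E, ⟨-, hE⟩, rfl⟩ := hS
  exact (HTop.presieve₀_mem_vPrecoverage_iff E).2 hE

variable {S : Scheme.{u}}

/-- The V topology on schemes over `S`. -/
abbrev JV (S : Scheme.{u}) : GrothendieckTopology (Over S) := HTop.vPrecoverage.toGrothendieck.over S

lemma Jph_le (S : Scheme.{u}) : HTop.Jph S ≤ JV S :=
  fun _ _ hR => Precoverage.toGrothendieck_mono phPrecoverage_le _ hR

lemma Jh_le (S : Scheme.{u}) : HTop.Jh S ≤ JV S :=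
  fun _ _ hR => Precoverage.toGrothendieck_mono hPrecoverage_le _ hR

end Groth.DescentBase.BigCart.VTop

namespace Groth.DescentBase.BigCart

variable {S : Scheme.{u}}

/-- Sheaves determined by geometric points are sheaves for the V topology. -/
theorem IsCart.isSheaf_V {G : AbB S} (hG : IsCart G) :
    Presheaf.IsSheaf (VTop.JV S) G.obj := by
  rw [Presheaf.isSheaf_iff_isSheaf_forget _ _ (forget AddCommGrpCat.{u + 1}),
    isSheaf_iff_isSheaf_of_type]
  intro C R hR
  obtain ⟨E, hE, hp, hd⟩ := VTop.admissible_of_saturate ((GrothendieckTopology.mem_over_iff _ R).1 hR)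
  refine hG.isSheafFor_of_openDetect R E (fun i => (Sieve.overEquiv_iff R (E.f i)).1 (hE i)) hp
    fun {X'} q O hO => hd q O fun i {Z} a b hab => ?_
  have : a = pullback.lift a b hab ≫ pullback.fst q (E.f i) := (pullback.lift_fst _ _ _).symm
  rw [this, Scheme.Hom.comp_base, TopCat.coe_comp, Set.preimage_comp]
  exact (hO i).preimage (pullback.lift a b hab).continuous

end Groth.DescentBase.BigCart
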