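import Groth.Agent.DescentBase.BigCart.Fppf
import Groth.Agent.DescentBase.BigCart.VTop
import Groth.Agent.HTopHyper.VToPh2

/-!
# Sections of inverse images on big sites finer than the étale one
-/

set_option autoImplicit false
set_option backward.isDefEq.respectTransparency.types false

universe u

open CategoryTheory CategoryTheory.Limits AlgebraicGeometry Opposite

namespace Groth.DescentBase.BigCart.AnyTop

variable {S : Scheme.{u}} (K : GrothendieckTopology (Over S)) (le : J S ≤ K)
  (hsheaf : ∀ {G : AbB S}, IsCart G → Presheaf.IsSheaf K G.obj)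
  [(EtFppf.a S).IsContinuous S.smallEtaleTopology K]
  (F : EtCoh.Ab S)

/-- `π⁻¹ F` as a sheaf for the finer topology. -/
noncomputable def piT : Sheaf K AddCommGrpCat.{u + 1} :=
  ⟨((BigSite.piEtPull Scheme.etalePrecoverage S).obj F).obj, hsheaf (isCart_piEtPull F)⟩

/-- A sheaf for the finer topology as a big étale sheaf. -/
noncomputable def toEtT (H : Sheaf K AddCommGrpCat.{u + 1}) : AbB S :=
  ⟨H.obj, isSheaf_mono le _ H.2⟩

/-- The unit into `π⁻¹ F` as a sheaf for the finer topology. -/
noncomputable def toPiT : F ⟶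
    ((EtFppf.a S).sheafPushforwardContinuous AddCommGrpCat.{u + 1} S.smallEtaleTopology K).obj
      (piT K hsheaf F) :=
  ⟨((BigSite.piEtAdj Scheme.etalePrecoverage S).unit.app F).hom⟩

/-- The inverse image is `π⁻¹ F`. -/
noncomputable def pullIso :
    ((EtFppf.a S).sheafPullback AddCommGrpCat.{u + 1} S.smallEtaleTopology K).obj F ≅
      piT K hsheaf F := by
  let adj := (EtFppf.a S).sheafAdjunctionContinuous AddCommGrpCat.{u + 1} S.smallEtaleTopology K
  let H := ((EtFppf.a S).sheafPullback AddCommGrpCat.{u + 1} S.smallEtaleTopology K).obj F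
  let β₀ : F ⟶ (BigSite.resEt Scheme.etalePrecoverage S).obj (toEtT K le H) :=
    ⟨(adj.unit.app F).hom⟩
  let γ₀ := ((BigSite.piEtAdj Scheme.etalePrecoverage S).homEquiv F (toEtT K le H)).symm β₀
  let γ : piT K hsheaf F ⟶ H := ⟨γ₀.hom⟩
  let α := (adj.homEquiv F (piT K hsheaf F)).symm (toPiT K hsheaf F)
  have hα : adj.unit.app F ≫
      ((EtFppf.a S).sheafPushforwardContinuous AddCommGrpCat.{u + 1} S.smallEtaleTopology K).map α =
        toPiT K hsheaf F :=
    (adj.homEquiv_unit _ _ α).symm.trans (Equiv.apply_symm_apply _ _)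
  have hγ : (BigSite.piEtAdj Scheme.etalePrecoverage S).unit.app F ≫
      (BigSite.resEt Scheme.etalePrecoverage S).map γ₀ = β₀ :=
    ((BigSite.piEtAdj Scheme.etalePrecoverage S).homEquiv_unit _ _ γ₀).symm.trans
      (Equiv.apply_symm_apply _ _)
  refine ⟨α, γ, ?_, ?_⟩
  · apply (adj.homEquiv F H).injective
    rw [Adjunction.homEquiv_unit, Adjunction.homEquiv_unit, Functor.map_comp, ← Category.assoc, hα,
      CategoryTheory.Functor.map_id]
    refine Eq.trans ?_ (Category.comp_id _).symm
    apply Sheaf.hom_ext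
    exact congrArg (fun k => k.hom) hγ
  · let αγ : (BigSite.piEtPull Scheme.etalePrecoverage S).obj F ⟶
        (BigSite.piEtPull Scheme.etalePrecoverage S).obj F := ⟨(γ ≫ α).hom⟩
    suffices αγ = 𝟙 _ from Sheaf.hom_ext (congrArg (fun k => k.hom) this :)
    apply ((BigSite.piEtAdj Scheme.etalePrecoverage S).homEquiv F _).injective
    rw [Adjunction.homEquiv_unit, Adjunction.homEquiv_unit, CategoryTheory.Functor.map_id]
    refine Eq.trans ?_ (Category.comp_id _).symm
    apply Sheaf.hom_ext
    apply NatTrans.ext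
    funext U
    show ((BigSite.piEtAdj Scheme.etalePrecoverage S).unit.app F).hom.app U ≫
      γ₀.hom.app _ ≫ α.hom.app _ = _
    rw [← Category.assoc]
    refine (congrArg (· ≫ α.hom.app _) (congrArg (fun k => k.hom.app U) hγ)).trans ?_
    exact congrArg (fun k => k.hom.app U) hα

include le hsheaf in
/-- Sections of the inverse image over `T` are the global sections of the inverse image to `T`. -/
theorem nonempty_sections_iso {T : Scheme.{u}} (f : T ⟶ S) :
    Nonempty ((((EtFppf.a S).sheafPullback AddCommGrpCat.{u + 1} S.smallEtaleTopology K).obj F).obj.obj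
        (op (Over.mk f)) ≅ ((EtCoh.pull f).obj F).obj.obj (op (EtCoh.top T))) := by
  obtain ⟨e⟩ := nonempty_piEtPull_sections_iso F f
  exact ⟨((sheafToPresheaf _ _).mapIso (pullIso K le hsheaf F)).app (op (Over.mk f)) ≪≫ e⟩

lemma etalePrecoverage_le_ph : Scheme.etalePrecoverage.{u} ≤ HTop.phPrecoverage := by
  intro X R hR
  obtain ⟨𝒰, rfl⟩ := (Precoverage.mem_iff_exists_zeroHypercover (J := Scheme.etalePrecoverage)).1 hR
  refine (HTop.presieve₀_mem_phPrecoverage_iff _).2 ((Groth.HTopHyper.isPhCover_iff_isVCover _ fun i => ?_).2 ?_)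
  · have : Etale (𝒰.f i) := Scheme.Cover.map_prop 𝒰 i
    infer_instance
  · exact Groth.HTopHyper.isVCover_of_fpqc
      { toPreZeroHypercover := 𝒰.toPreZeroHypercover
        mem₀ := Scheme.fppfPrecoverage_le_fpqcPrecoverage _
          (BigSite.etalePrecoverage_le_fppfPrecoverage _ 𝒰.mem₀) }

lemma etalePrecoverage_le_h : Scheme.etalePrecoverage.{u} ≤ HTop.hPrecoverage := by
  intro X R hR
  obtain ⟨𝒰, rfl⟩ := (Precoverage.mem_iff_exists_zeroHypercover (J := Scheme.etalePrecoverage)).1 hR
  refine (HTop.presieve₀_mem_hPrecoverage_iff _).2 ⟨fun i => ?_, ?_⟩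
  · have : Etale (𝒰.f i) := Scheme.Cover.map_prop 𝒰 i
    infer_instance
  · exact Groth.HTopHyper.isVCover_of_fpqc
      { toPreZeroHypercover := 𝒰.toPreZeroHypercover
        mem₀ := Scheme.fppfPrecoverage_le_fpqcPrecoverage _
          (BigSite.etalePrecoverage_le_fppfPrecoverage _ 𝒰.mem₀) }

lemma le_Jph (S : Scheme.{u}) : J S ≤ HTop.Jph S :=
  fun _ _ hR => Precoverage.toGrothendieck_mono etalePrecoverage_le_ph _ hR

lemma le_Jh (S : Scheme.{u}) : J S ≤ HTop.Jh S :=
  fun _ _ hR => Precoverage.toGrothendieck_mono etalePrecoverage_le_h _ hR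

end Groth.DescentBase.BigCart.AnyTop
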