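import Groth.Prelude.Def_BigSite
import Groth.Agent.DescentBase.ClosedImmSh
import Groth.Agent.EtaleBase.Stalks

/-!
# Big étale sheaves determined by geometric points

`IsCart G`: a section of `G` vanishing at a geometric point vanishes on an étale neighbourhood of
it, and the value at a geometric point of the base comes from an étale neighbourhood.
-/

set_option autoImplicit false
set_option backward.isDefEq.respectTransparency.types false

universe u

open CategoryTheory CategoryTheory.Limits AlgebraicGeometry Opposite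

namespace Groth.DescentBase.BigCart

open Groth.EtaleBase

/-- The topology of the big étale site. -/
abbrev J (S : Scheme.{u}) : GrothendieckTopology (Over S) := QuotSh.J Scheme.etalePrecoverage S

/-- Abelian sheaves on the big étale site. -/
abbrev AbB (S : Scheme.{u}) : Type (u + 2) := BigSite.Ab Scheme.etalePrecoverage S

variable {S : Scheme.{u}}

/-- An étale morphism to an object of the big site. -/
noncomputable abbrev etHom (C : Over S) {W : Scheme.{u}} (e : W ⟶ C.left) :
    Over.mk (e ≫ C.hom) ⟶ C := Over.homMk e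

/-- A sieve covers in the big étale topology iff étale members are jointly surjective. -/
lemma mem_J_iff (C : Over S) (R : Sieve C) :
    R ∈ J S C ↔ ∀ x : C.left, ∃ (V : Over S) (g : V ⟶ C),
      R g ∧ Etale g.left ∧ x ∈ Set.range g.left.base := by
  rw [GrothendieckTopology.mem_over_iff]
  show _ ∈ Scheme.grothendieckTopology @Etale C.left ↔ _
  rw [Scheme.mem_grothendieckTopology_iff]
  constructor
  · rintro ⟨𝒰, hle⟩ x
    obtain ⟨i, y, hy⟩ := 𝒰.exists_eq x
    have hi : Etale (𝒰.f i) := 𝒰.map_prop i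
    exact ⟨_, etHom C (𝒰.f i), (Sieve.overEquiv_iff R (𝒰.f i)).1 (hle _ _ (Presieve.ofArrows.mk i)),
      hi, y, hy⟩
  · intro h
    choose V g hR hg y hy using h
    refine ⟨(AlgebraicGeometry.Scheme.Cover.mkOfCovers (C.left) (fun x => (V x).left)
      (fun x => (g x).left) (fun x => ⟨x, y x, hy x⟩) fun x => hg x), ?_⟩
    rintro _ _ ⟨x⟩
    rw [Sieve.overEquiv_iff]
    let k : Over.mk ((g x).left ≫ C.hom) ⟶ V x := Over.homMk (𝟙 _)
      ((Category.id_comp _).trans (Over.w (g x)).symm)
    have : etHom C (g x).left = k ≫ g x := Over.OverMorphism.ext (Category.id_comp _).symm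
    show R.arrows (etHom C (g x).left)
    rw [this]
    exact R.downward_closed (hR x) k

/-- Sections of a sheaf agreeing on a covering sieve are equal. -/
lemma eq_of_cover (G : AbB S) {C : Over S} (R : Sieve C) (hR : R ∈ J S C)
    {s t : G.obj.obj (op C)}
    (h : ∀ ⦃V : Over S⦄ (g : V ⟶ C), R g → G.obj.map g.op s = G.obj.map g.op t) : s = t :=
  (((isSheaf_iff_isSheaf_of_type _ _).1
    ((sheafCompose (J S) (forget AddCommGrpCat.{u + 1})).obj G).2).isSeparated _ hR).ext
      fun V g hg => h g hg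

/-- A section that vanishes étale locally is zero. -/
lemma eq_zero_of_locally (G : AbB S) {C : Over S} (s : G.obj.obj (op C))
    (h : ∀ x : C.left, ∃ (V : Over S) (g : V ⟶ C),
      Etale g.left ∧ x ∈ Set.range g.left.base ∧ G.obj.map g.op s = 0) : s = 0 := by
  let R : Sieve C :=
    { arrows := fun V g => G.obj.map g.op s = 0
      downward_closed := fun {V W g} hg k => by simp [hg] }
  refine eq_of_cover G R ((mem_J_iff C R).2 fun x => ?_) fun V g hg => hg.trans (map_zero _).symm
  obtain ⟨V, g, hg, hx, h0⟩ := h x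
  exact ⟨V, g, h0, hg, hx⟩

section points

variable {Ω : Type u} [Field Ω]

/-- A geometric point of an object, as an object of the big site. -/
noncomputable abbrev ptObj (C : Over S) (ξ : Spec (CommRingCat.of Ω) ⟶ C.left) : Over S :=
  Over.mk (ξ ≫ C.hom)

/-- The inclusion of a geometric point. -/
noncomputable abbrev ptHom (C : Over S) (ξ : Spec (CommRingCat.of Ω) ⟶ C.left) :
    ptObj C ξ ⟶ C := Over.homMk ξ

end points

/-- Sections of `G` are controlled by their values at geometric points. -/
structure IsCart (G : AbB S) : Prop where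
  sep : ∀ (C : Over S) {Ω : Type u} [Field Ω] [IsAlgClosed Ω]
    (ξ : Spec (CommRingCat.of Ω) ⟶ C.left) (s : G.obj.obj (op C)),
    G.obj.map (ptHom C ξ).op s = 0 → ∃ (V : Over S) (g : V ⟶ C),
      Etale g.left ∧ ξ.base default ∈ Set.range g.left.base ∧ G.obj.map g.op s = 0
  lift : ∀ {Ω : Type u} [Field Ω] [IsAlgClosed Ω] (ξ : Spec (CommRingCat.of Ω) ⟶ S)
    (x : G.obj.obj (op (Over.mk ξ))),
    ∃ (U : S.Etale) (l : Over.mk ξ ⟶ (EtFppf.a S).obj U)
      (t : G.obj.obj (op ((EtFppf.a S).obj U))), G.obj.map l.op t = x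

variable {G : AbB S}

/-- A section vanishing at all geometric points is zero. -/
lemma IsCart.eq_zero (hG : IsCart G) {C : Over S} (s : G.obj.obj (op C))
    (h : ∀ x : C.left, G.obj.map (ptHom C (Groth.DescentBase.acPoint x)).op s = 0) : s = 0 := by
  refine eq_zero_of_locally G s fun x => ?_
  obtain ⟨V, g, hg, hx, h0⟩ := hG.sep C (Groth.DescentBase.acPoint x) s (h x)
  exact ⟨V, g, hg, Groth.DescentBase.acPoint_apply x _ ▸ hx, h0⟩

/-- Two sections agreeing at all geometric points are equal. -/
lemma IsCart.ext (hG : IsCart G) {C : Over S} (s t : G.obj.obj (op C))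
    (h : ∀ x : C.left, G.obj.map (ptHom C (Groth.DescentBase.acPoint x)).op s =
      G.obj.map (ptHom C (Groth.DescentBase.acPoint x)).op t) : s = t := by
  refine sub_eq_zero.1 (hG.eq_zero _ fun x => ?_)
  rw [map_sub, h x, sub_self]

/-- A section vanishing at some geometric point over each point is zero. -/
lemma IsCart.eq_zero_of_exists (hG : IsCart G) {C : Over S} (s : G.obj.obj (op C))
    (h : ∀ x : C.left, ∃ (Ω : Type u) (_ : Field Ω) (_ : IsAlgClosed Ω)
      (ξ : Spec (CommRingCat.of Ω) ⟶ C.left), ξ.base default = x ∧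
        G.obj.map (ptHom C ξ).op s = 0) : s = 0 := by
  refine eq_zero_of_locally G s fun x => ?_
  obtain ⟨Ω, _, _, ξ, rfl, hξ⟩ := h x
  exact hG.sep C ξ s hξ

lemma IsCart.of_iso {G' : AbB S} (hG : IsCart G) (e : G ≅ G') : IsCart G' where
  sep C Ω _ _ ξ s hs := by
    obtain ⟨V, g, hg, hx, h0⟩ := hG.sep C ξ (e.inv.hom.app _ s)
      ((NatTrans.naturality_apply e.inv.hom (ptHom C ξ).op s).symm.trans
        ((congrArg (e.inv.hom.app _) hs).trans (map_zero _)))
    refine ⟨V, g, hg, hx, ?_⟩
    have h1 : e.hom.hom.app _ (e.inv.hom.app _ s) = s :=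
      ConcreteCategory.congr_hom (congrArg (fun k => k.hom.app (op C)) e.inv_hom_id) s
    rw [← h1, ← NatTrans.naturality_apply, h0, map_zero]
  lift ξ x := by
    obtain ⟨U, l, t, ht⟩ := hG.lift ξ (e.inv.hom.app _ x)
    refine ⟨U, l, e.hom.hom.app _ t, ?_⟩
    rw [← NatTrans.naturality_apply, ht]
    exact ConcreteCategory.congr_hom (congrArg (fun k => k.hom.app (op (Over.mk ξ))) e.inv_hom_id) x

variable {Ω : Type u} [Field Ω] [IsAlgClosed Ω] {ξ : Spec (CommRingCat.of Ω) ⟶ S}

/-- An étale scheme over an étale `S`-scheme is an étale `S`-scheme. -/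
noncomputable def etaleObj (U : S.Etale) {W : Scheme.{u}} (e : W ⟶ U.left) [Etale e] : S.Etale :=
  Scheme.Etale.mk (e ≫ U.hom)

/-- The morphism from `etaleObj U e`. -/
noncomputable def etaleObjHom (U : S.Etale) {W : Scheme.{u}} (e : W ⟶ U.left) [Etale e] :
    etaleObj U e ⟶ U :=
  MorphismProperty.Over.homMk e rfl

/-- A section whose germ vanishes has zero value at the geometric point. -/
lemma map_eq_zero_of_germ (G : AbB S) (U : S.Etale) (l : Over.mk ξ ⟶ (EtFppf.a S).obj U)
    (t : G.obj.obj (op ((EtFppf.a S).obj U)))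
    (h : germ ξ ((BigSite.resEt Scheme.etalePrecoverage S).obj G) U l t = 0) :
    G.obj.map l.op t = 0 := by
  obtain ⟨V, g, w, hw, hz⟩ :=
    (germ_eq_zero_iff ξ ((BigSite.resEt Scheme.etalePrecoverage S).obj G) U l t).1 h
  subst hw
  show G.obj.map ((show Over.mk ξ ⟶ (EtFppf.a S).obj V from w) ≫ (EtFppf.a S).map g).op t = 0
  rw [op_comp, Functor.map_comp, ConcreteCategory.comp_apply]
  exact (congrArg (G.obj.map _) hz).trans (map_zero _)

/-- A section with zero value at the geometric point has vanishing germ. -/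
lemma IsCart.germ_eq_zero (hG : IsCart G) (U : S.Etale) (l : Over.mk ξ ⟶ (EtFppf.a S).obj U)
    (t : G.obj.obj (op ((EtFppf.a S).obj U))) (h : G.obj.map l.op t = 0) :
    germ ξ ((BigSite.resEt Scheme.etalePrecoverage S).obj G) U l t = 0 := by
  have h' : G.obj.map (ptHom ((EtFppf.a S).obj U) l.left).op t = 0 := by
    have e : ptHom ((EtFppf.a S).obj U) l.left = eqToHom (by simp [ptObj, Over.w l]) ≫ l := by
      apply Over.OverMorphism.ext
      simp [ptHom]
    rw [e, op_comp, Functor.map_comp, ConcreteCategory.comp_apply, h, map_zero]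
  obtain ⟨V, g, hg, ⟨v, hv⟩, h0⟩ := hG.sep ((EtFppf.a S).obj U) l.left t h'
  obtain ⟨m, hm, -⟩ := Scheme.exists_fac_of_etale_of_isSepClosed g.left l.left v hv
  have : Etale (show V.left ⟶ U.left from g.left) := hg
  let w : (Scheme.pointSmallEtale ξ).fiber.obj (etaleObj U (show V.left ⟶ U.left from g.left)) :=
    Over.homMk (U := Over.mk ξ) m
      ((Category.assoc _ _ _).symm.trans ((congrArg (· ≫ U.hom) hm).trans (Over.w l)))
  refine (germ_eq_zero_iff ξ ((BigSite.resEt Scheme.etalePrecoverage S).obj G) U l t).2 ⟨_, etaleObjHom U _, w, Over.OverMorphism.ext hm, ?_⟩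
  let k : (EtFppf.a S).obj (etaleObj U (show V.left ⟶ U.left from g.left)) ⟶ V :=
    Over.homMk (𝟙 _) ((Category.id_comp _).trans (Over.w g).symm)
  have hk : (EtFppf.a S).map (etaleObjHom U (show V.left ⟶ U.left from g.left)) = k ≫ g :=
    Over.OverMorphism.ext (Category.id_comp _).symm
  show G.obj.map ((EtFppf.a S).map (etaleObjHom U _)).op t = 0
  rw [hk, op_comp, Functor.map_comp, ConcreteCategory.comp_apply, h0, map_zero]

/-- Equal germs have equal values at the geometric point. -/
lemma map_eq_of_germ_eq (G : AbB S) {U U' : S.Etale} (l : Over.mk ξ ⟶ (EtFppf.a S).obj U)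
    (l' : Over.mk ξ ⟶ (EtFppf.a S).obj U') (t : G.obj.obj (op ((EtFppf.a S).obj U)))
    (t' : G.obj.obj (op ((EtFppf.a S).obj U')))
    (h : germ ξ ((BigSite.resEt Scheme.etalePrecoverage S).obj G) U l t =
      germ ξ ((BigSite.resEt Scheme.etalePrecoverage S).obj G) U' l' t') :
    G.obj.map l.op t = G.obj.map l'.op t' := by
  let Φ := Scheme.pointSmallEtale ξ
  obtain ⟨W₀, pm, qm, -⟩ := IsCofilteredOrEmpty.cone_objs (C := Φ.fiber.Elements)
    (Functor.elementsMk _ U l) (Functor.elementsMk _ U' l')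
  obtain ⟨W, w⟩ := W₀
  let p : W ⟶ U := pm.1
  let q : W ⟶ U' := qm.1
  have hp : Φ.fiber.map p w = l := pm.2
  have hq : Φ.fiber.map q w = l' := qm.2
  let w' : Over.mk ξ ⟶ (EtFppf.a S).obj W := w
  have e1 : w' ≫ (EtFppf.a S).map p = l := hp
  have e2 : w' ≫ (EtFppf.a S).map q = l' := hq
  let M := (BigSite.resEt Scheme.etalePrecoverage S).obj G
  have key : germ ξ M W w (G.obj.map ((EtFppf.a S).map p).op t -
      G.obj.map ((EtFppf.a S).map q).op t') = 0 := by
    refine (map_sub (germ ξ M W w).hom _ _).trans (sub_eq_zero.2 ?_)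
    refine ((Φ.toPresheafFiber_w_apply p w M.obj t).trans ?_).trans
      (Φ.toPresheafFiber_w_apply q w M.obj t').symm
    exact ((congrArg (fun z => germ ξ M U z t) hp).trans h).trans
      (congrArg (fun z => germ ξ M U' z t') hq).symm
  have := map_eq_zero_of_germ G W w' _ key
  rw [map_sub, sub_eq_zero] at this
  rw [← e1, ← e2, op_comp, op_comp, Functor.map_comp, Functor.map_comp]
  exact this

/-- Pulling back to the big site of a scheme over the base. -/
lemma IsCart.pullBig (hG : IsCart G) {T : Scheme.{u}} (q : T ⟶ S) :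
    IsCart ((BigSite.pullBig Scheme.etalePrecoverage q AddCommGrpCat.{u + 1}).obj G) where
  sep C Ω _ _ ξ s hs := by
    let j : ptObj ((Over.map q).obj C) ξ ⟶ (Over.map q).obj (ptObj C ξ) :=
      Over.homMk (𝟙 _) (by simp)
    have hj : ptHom ((Over.map q).obj C) ξ = j ≫ (Over.map q).map (ptHom C ξ) :=
      Over.OverMorphism.ext (Category.id_comp _).symm
    obtain ⟨V, g, hg, hx, h0⟩ := hG.sep ((Over.map q).obj C) ξ s (by
      rw [hj, op_comp, Functor.map_comp, ConcreteCategory.comp_apply]
      exact (congrArg (G.obj.map _) hs).trans (map_zero _))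
    refine ⟨Over.mk (g.left ≫ C.hom), Over.homMk g.left rfl, hg, hx, ?_⟩
    let k : (Over.map q).obj (Over.mk (g.left ≫ C.hom)) ⟶ V :=
      Over.homMk (𝟙 _) (by
        have := Over.w g
        simp at this ⊢
        exact this.symm)
    have hk : (Over.map q).map (Over.homMk g.left rfl : Over.mk (g.left ≫ C.hom) ⟶ C) = k ≫ g :=
      Over.OverMorphism.ext (Category.id_comp _).symm
    refine (congrArg (fun m => G.obj.map m.op s) hk).trans ?_
    show G.obj.map (k ≫ g).op s = 0
    rw [op_comp, Functor.map_comp, ConcreteCategory.comp_apply, h0, map_zero]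
  lift {Ω} _ _ ξ x := by
    obtain ⟨U, l, t, ht⟩ := hG.lift (ξ ≫ q) x
    let Ub : T.Etale := (EtCoh.bc q).obj U
    let lb : Over.mk ξ ⟶ (EtFppf.a T).obj Ub :=
      Over.homMk (pullback.lift l.left ξ (Over.w l)) (pullback.lift_snd _ _ _)
    let p : (Over.map q).obj ((EtFppf.a T).obj Ub) ⟶ (EtFppf.a S).obj U :=
      Over.homMk (pullback.fst U.hom q) pullback.condition
    refine ⟨Ub, lb, G.obj.map p.op t, ?_⟩
    show G.obj.map ((Over.map q).map lb).op (G.obj.map p.op t) = x
    rw [← ConcreteCategory.comp_apply, ← Functor.map_comp, ← op_comp]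
    have : (Over.map q).map lb ≫ p = l := Over.OverMorphism.ext (pullback.lift_fst _ _ _)
    rw [this]
    exact ht

end Groth.DescentBase.BigCart
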