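import Groth.Agent.SiteCohomology.CechResolution

/-!
# Čech resolutions on sites with a large category of objects
-/

set_option autoImplicit false
universe u

open CategoryTheory Limits Opposite Simplicial AlgebraicTopology
open Groth.SiteCohomology

set_option synthInstance.maxHeartbeats 400000
set_option maxHeartbeats 1000000

namespace Groth.DescentBase.BigCart

section Presheaf

variable {C : Type (u + 1)} [Category.{u} C]

/-- Exactness of short complexes of presheaves is objectwise. -/
lemma exact_of_evaluation' (S : ShortComplex (Cᵒᵖ ⥤ AddCommGrpCat.{u + 1}))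
    (h : ∀ U, (S.map ((evaluation Cᵒᵖ AddCommGrpCat.{u + 1}).obj U)).Exact) : S.Exact := by
  rw [S.exact_iff_isZero_homology]
  exact Functor.isZero _ fun U =>
    ((ShortComplex.exact_iff_isZero_homology _).1 (h U)).of_iso
      (S.mapHomologyIso ((evaluation _ _).obj U)).symm

/-- The evaluation at `c` of an augmented simplicial object in presheaves. -/
abbrev evalAug {A : Type*} [Category A] (c : Cᵒᵖ) :
    SimplicialObject.Augmented (Cᵒᵖ ⥤ A) ⥤ SimplicialObject.Augmented A :=
  (SimplicialObject.Augmented.whiskering _ _).obj ((evaluation Cᵒᵖ A).obj c)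

/-- Being an augmented resolution of presheaves of abelian groups is checked objectwise. -/
lemma isAugResolution_of_evaluation (X : SimplicialObject.Augmented (Cᵒᵖ ⥤ AddCommGrpCat.{u + 1}))
    (h : ∀ c, IsAugResolution ((evalAug c).obj X)) : IsAugResolution X := by
  have hhom : ∀ c, ((evalAug c).obj X).hom.app (op ⦋0⦌) = (X.hom.app (op ⦋0⦌)).app c :=
    fun c => Category.comp_id _
  have hd := fun c n => map_objD ((evaluation Cᵒᵖ AddCommGrpCat.{u + 1}).obj c) X.left n
  refine { epi := ?_, zero₀ := objD_comp_ε _, exact₀ := ?_,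
           zero := fun n => AlternatingFaceMapComplex.d_squared _ n, exact := fun n => ?_ }
  · have : ∀ c, Epi ((X.hom.app (op ⦋0⦌)).app c) := fun c => hhom c ▸ (h c).epi
    exact NatTrans.epi_of_epi_app _
  · exact exact_of_evaluation' _ fun c =>
      exact_mk_of_eq (hd c 0) (hhom c).symm _ (h c).exact₀
  · exact exact_of_evaluation' _ fun c =>
      exact_mk_of_eq (hd c (n + 1)) (hd c n) _ ((h c).exact n)

/-- An augmented simplicial presheaf of sets is of Čech type objectwise. -/
def IsCechTypePresheaf (X : SimplicialObject.Augmented (Cᵒᵖ ⥤ Type (u + 1))) : Prop :=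
  ∀ c, IsCechType ((evalAug c).obj X)

variable (J : GrothendieckTopology C) [HasSheafify J AddCommGrpCat.{u + 1}]
  [J.HasSheafCompose (forget AddCommGrpCat.{u + 1})]

/-- The free abelian sheaf on a presheaf of sets. -/
noncomputable abbrev freeB : (Cᵒᵖ ⥤ Type (u + 1)) ⥤ Sheaf J AddCommGrpCat.{u + 1} :=
  (Functor.whiskeringRight _ _ _).obj AddCommGrpCat.free.{u + 1} ⋙ presheafToSheaf J AddCommGrpCat.{u + 1}

/-- The free/forget adjunction on presheaves of sets and abelian sheaves. -/
noncomputable def freeBAdj : freeB J ⊣ (sheafToPresheaf J AddCommGrpCat.{u + 1} ⋙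
    (Functor.whiskeringRight Cᵒᵖ _ _).obj (forget AddCommGrpCat.{u + 1})) :=
  (AddCommGrpCat.adj.whiskerRight Cᵒᵖ).comp (sheafificationAdjunction J AddCommGrpCat.{u + 1})

/-- The free abelian sheaf functor inverts local isomorphisms. -/
lemma isIso_freeB_map_of_W {P Q : Cᵒᵖ ⥤ Type (u + 1)} (f : P ⟶ Q) (hf : J.W f) :
    IsIso ((freeB J).map f) := by
  rw [isIso_iff_coyoneda_map_bijective]
  intro G
  have hG : Presheaf.IsSheaf J (G.obj ⋙ forget AddCommGrpCat.{u + 1}) :=
    GrothendieckTopology.HasSheafCompose.isSheaf G.obj G.2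
  have key : (fun x => (freeB J).map f ≫ x) =
      ((freeBAdj J).homEquiv P G).symm ∘ (fun y => f ≫ y) ∘ ((freeBAdj J).homEquiv Q G) := by
    funext x
    simp only [Function.comp_apply, Adjunction.homEquiv_naturality_left_symm,
      Equiv.symm_apply_apply]
  rw [key]
  exact (Equiv.bijective _).comp ((hf _ hG).comp (Equiv.bijective _))

/-- The same augmented simplicial presheaf with point replaced by the image of the augmentation. -/
noncomputable def imageAug (X : SimplicialObject.Augmented (Cᵒᵖ ⥤ Type (u + 1))) :
    SimplicialObject.Augmented (Cᵒᵖ ⥤ Type (u + 1)) :=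
  X.left.augment (Subfunctor.range (X.hom.app (op ⦋0⦌))).toFunctor
    (Subfunctor.toRange (X.hom.app (op ⦋0⦌))) fun i g₁ g₂ => by
      rw [← cancel_mono (Subfunctor.range (X.hom.app (op ⦋0⦌))).ι, Category.assoc, Category.assoc,
        Subfunctor.toRange_ι]
      exact (X.hom.naturality g₁.op).trans (X.hom.naturality g₂.op).symm

lemma imageAug_hom_zero (X : SimplicialObject.Augmented (Cᵒᵖ ⥤ Type (u + 1))) :
    (imageAug X).hom.app (op ⦋0⦌) = Subfunctor.toRange (X.hom.app (op ⦋0⦌)) := by
  change X.left.map (SimplexCategory.const ⦋0⦌ ⦋0⦌ 0).op ≫ _ = _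
  rw [SimplexCategory.hom_zero_zero (SimplexCategory.const ⦋0⦌ ⦋0⦌ 0), op_id, X.left.map_id]
  exact Category.id_comp _

lemma imageAug_hom_ι (X : SimplicialObject.Augmented (Cᵒᵖ ⥤ Type (u + 1))) (n : SimplexCategoryᵒᵖ) :
    (imageAug X).hom.app n ≫ (Subfunctor.range (X.hom.app (op ⦋0⦌))).ι = X.hom.app n := by
  change (X.left.map (SimplexCategory.const ⦋0⦌ n.unop 0).op ≫ _) ≫ _ = _
  refine (Category.assoc _ _ _).trans ((congrArg (_ ≫ ·) (Subfunctor.toRange_ι _)).trans ?_)
  exact (X.hom.naturality (SimplexCategory.const ⦋0⦌ n.unop 0).op).trans (Category.comp_id _)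

/-- The comparison map from the image augmentation. -/
noncomputable def imageAugHom (X : SimplicialObject.Augmented (Cᵒᵖ ⥤ Type (u + 1))) :
    imageAug X ⟶ X where
  left := 𝟙 X.left
  right := (Subfunctor.range (X.hom.app (op ⦋0⦌))).ι
  w := by
    apply NatTrans.ext
    funext n
    exact (Category.id_comp _).trans (imageAug_hom_ι X n).symm

/-- The free abelian presheaves on a simplicial presheaf of Čech type with locally surjective
augmentation sheafify to a resolution of the free abelian sheaf on the point. -/
theorem isAugResolution_freeB (X : SimplicialObject.Augmented (Cᵒᵖ ⥤ Type (u + 1)))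
    (hX : IsCechTypePresheaf X) [Presheaf.IsLocallySurjective J (X.hom.app (op ⦋0⦌))] :
    IsAugResolution (((SimplicialObject.Augmented.whiskering _ _).obj (freeB J)).obj X) := by
  let Y := imageAug X
  let free := (Functor.whiskeringRight Cᵒᵖ _ _).obj AddCommGrpCat.free.{u + 1}
  have hY : IsAugResolution (((SimplicialObject.Augmented.whiskering _ _).obj free).obj Y) := by
    refine isAugResolution_of_evaluation _ fun c => ?_
    have hY0 : ((evalAug c).obj Y).hom.app (op ⦋0⦌) =
        (Subfunctor.toRange (X.hom.app (op ⦋0⦌))).app c := by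
      rw [← imageAug_hom_zero]
      exact Category.comp_id _
    have hX0 : ((evalAug c).obj X).hom.app (op ⦋0⦌) = (X.hom.app (op ⦋0⦌)).app c :=
      Category.comp_id _
    have hsur : Function.Surjective (((evalAug c).obj Y).hom.app (op ⦋0⦌)) := by
      rw [hY0]
      rintro ⟨b, a, ha⟩
      exact ⟨a, Subtype.ext ha⟩
    have hT : IsCechType ((evalAug c).obj Y) :=
      { ext := (hX c).ext
        lift := fun n t ht => (hX c).lift n t fun i j => by
          have h := ht i j
          rw [hY0] at h
          rw [hX0]
          exact congrArg Subtype.val h }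
    obtain ⟨ed⟩ := hT.nonempty_extraDegeneracy hsur
    exact isAugResolution_of_extraDegeneracy (ed.map AddCommGrpCat.free.{u + 1})
  have h2 := hY.map (presheafToSheaf J AddCommGrpCat.{u + 1})
  have hι : IsIso ((freeB J).map (Subfunctor.range (X.hom.app (op ⦋0⦌))).ι) := by
    refine isIso_freeB_map_of_W J _ ?_
    have := Presheaf.isLocallySurjective_of_isLocallySurjective_fac J
      (Subfunctor.toRange_ι (X.hom.app (op ⦋0⦌)))
    have : Presheaf.IsLocallyInjective J (Subfunctor.range (X.hom.app (op ⦋0⦌))).ι :=
      Presheaf.isLocallyInjective_of_injective J _ fun _ => Subtype.val_injective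
    exact J.W_of_isLocallyBijective _
  let e := ((SimplicialObject.Augmented.whiskering _ _).obj (freeB J)).map (imageAugHom X)
  have : IsIso e.left := inferInstanceAs (IsIso
    (((SimplicialObject.whiskering _ _).obj (freeB J)).map (𝟙 X.left)))
  have : IsIso e.right := hι
  exact @IsAugResolution.congr_point _ _ _ _ _ h2 e (by assumption) (by assumption)

end Presheaf

end Groth.DescentBase.BigCart
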