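import Groth.Agent.DescentBase.BigCart.Vanish
import Groth.Agent.DescentBase.BigCart.ExtAcyclic
import Groth.Agent.SiteCohomology.BigEtaleCohomology

/-!
# Cohomology of sheaves determined by geometric points does not depend on the topology
-/

set_option autoImplicit false
set_option backward.isDefEq.respectTransparency.types false
set_option maxHeartbeats 1000000

universe u

open CategoryTheory CategoryTheory.Limits AlgebraicGeometry Opposite

namespace Groth.DescentBase.BigCart

variable (K : Precoverage Scheme.{u}) [Adm K] {S T : Scheme.{u}}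

/-- Restriction to the small étale site factors through the big étale site. -/
noncomputable def resEtIso (S : Scheme.{u}) :
    BigSite.resEt K S ≅ epsK K S ⋙ BigSite.resEt Scheme.etalePrecoverage S :=
  Iso.refl _

/-- `π⁻¹ F` as a `K`-sheaf. -/
noncomputable def piK (F : EtCoh.Ab S) : BigSite.Ab K S :=
  ⟨((BigSite.piEtPull Scheme.etalePrecoverage S).obj F).obj, Adm.isSheaf (isCart_piEtPull F)⟩

lemma isCart_piK (F : EtCoh.Ab S) : IsCart ((epsK K S).obj (piK K F)) := isCart_piEtPull F

lemma nonempty_resEt_piK_iso (F : EtCoh.Ab S) :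
    Nonempty ((BigSite.resEt K S).obj (piK K F) ≅ F) := by
  have := isIso_unit F
  exact ⟨(asIso ((BigSite.piEtAdj Scheme.etalePrecoverage S).unit.app F)).symm⟩

/-- Sheaves determined by geometric points are acyclic for restriction to the small étale site. -/
theorem isZero_RresEt {M : BigSite.Ab K S} (hM : IsCart ((epsK K S).obj M)) (q : ℕ) (hq : 0 < q) :
    IsZero ((BigSite.RresEt K S q).obj M) := by
  obtain ⟨a⟩ := Groth.SiteCohomology.nonempty_rightDerived_comp_exact (epsK K S)
    (BigSite.resEt Scheme.etalePrecoverage S) (BigSite.resEt K S) (resEtIso K S) M q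
  exact ((BigSite.resEt Scheme.etalePrecoverage S).map_isZero (isZero_Reps K hM q hq)).of_iso a

/-- `H^p(S_et, M|) = H^p_K(S, M)`. -/
theorem nonempty_H_equiv {M : BigSite.Ab K S} (hM : IsCart ((epsK K S).obj M)) (p : ℕ) :
    Nonempty (EtCoh.H S ((BigSite.resEt K S).obj M) p ≃+ BigSite.H K S M p) := by
  obtain ⟨e⟩ := nonempty_ext_adjunction_equiv_of_acyclic (BigSite.piEtAdj K S)
    (fun I hI => @Groth.SiteCohomology.injective_resEt _ K _ I hI)
    ((constantSheaf S.smallEtaleTopology AddCommGrpCat.{u + 1}).obj
      (AddCommGrpCat.of (ULift ℤ))) M (fun k => isZero_RresEt K hM (k + 1) (Nat.succ_pos k)) p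
  obtain ⟨i⟩ := Groth.SiteCohomology.nonempty_piEtPull_constantSheaf_iso K S
  exact ⟨e.trans (Groth.SiteCohomology.extIsoLeft (i.app (AddCommGrpCat.of (ULift ℤ))) M p).symm⟩

/-- Higher direct images along finite morphisms vanish. -/
theorem isZero_RpushK_of_pos (f : T ⟶ S) [IsFinite f] {M : BigSite.Ab K T}
    (hM : IsCart ((epsK K T).obj M)) (j : ℕ) (hj : 0 < j) :
    IsZero (((pushK K f).rightDerived j).obj M) :=
  isZero_RpushK K f (vanishUpTo K j) hM j hj le_rfl

end Groth.DescentBase.BigCart
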