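import Groth.Agent.CohFin.Acyclic
import Groth.Agent.RDerLib.LES
import Groth.Agent.SiteCohomology.AcyclicImage

/-!
# Monomorphisms between higher derived functors

`mono_rightDerived_succ_map`: `R^{n+1}F` keeps the monomorphism of a short exact sequence when
`R^nF` keeps its epimorphism.
`exists_mono_rightDerived_comp`: the edge monomorphism `R^{n+1}F (G X) ⟶ R^{n+1}(G ⋙ F) X` when
`R^jG X = 0` for `1 ≤ j ≤ n`.
-/

set_option autoImplicit false

universe v₁ v₂ v₃ u₁ u₂ u₃

open CategoryTheory CategoryTheory.Limits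

namespace Groth.DescentBase.BigCart

variable {A : Type u₁} [Category.{v₁} A] [Abelian A] [EnoughInjectives A]
  {B : Type u₂} [Category.{v₂} B] [Abelian B]

section single

variable (F : A ⥤ B) [F.Additive]

lemma mono_rightDerived_succ_map {S : ShortComplex A} (hS : S.ShortExact) (n : ℕ)
    [Epi ((F.rightDerived n).map S.g)] : Mono ((F.rightDerived (n + 1)).map S.f) := by
  obtain ⟨L⟩ := Groth.RDerLib.exists_derivedLES F
  have h0 : L.δ S hS n (n + 1) rfl = 0 := by
    rw [← cancel_epi ((F.rightDerived n).map S.g), comp_zero]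
    exact L.comp_δ S hS n (n + 1) rfl
  exact (L.exact₁ S hS n (n + 1) rfl).mono_g h0

variable [PreservesFiniteLimits F]

lemma mono_rightDerived_one_map {S : ShortComplex A} (hS : S.ShortExact) [Epi (F.map S.g)] :
    Mono ((F.rightDerived 1).map S.f) := by
  have : Epi ((F.rightDerived 0).map S.g) := by
    have e : (F.rightDerived 0).map S.g = F.rightDerivedZeroIsoSelf.hom.app S.X₂ ≫ F.map S.g ≫
        F.rightDerivedZeroIsoSelf.inv.app S.X₃ := by
      refine ((congrArg (F.rightDerivedZeroIsoSelf.hom.app S.X₂ ≫ ·)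
        (F.rightDerivedZeroIsoSelf.inv.naturality S.g)).trans ?_).symm
      exact F.rightDerivedZeroIsoSelf.hom_inv_id_app_assoc _ _
    rw [e]
    infer_instance
  exact mono_rightDerived_succ_map F hS 0

lemma epi_map_of_isZero_one {S : ShortComplex A} (hS : S.ShortExact)
    (h : IsZero ((F.rightDerived 1).obj S.X₁)) : Epi (F.map S.g) := by
  obtain ⟨L⟩ := Groth.RDerLib.exists_derivedLES F
  have : Epi ((F.rightDerived 0).map S.g) :=
    (L.exact₃ S hS 0 1 rfl).epi_f (h.eq_of_tgt _ _)
  have : Epi (F.rightDerivedZeroIsoSelf.hom.app S.X₂ ≫ F.map S.g) := by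
    rw [← show (F.rightDerived 0).map S.g ≫ F.rightDerivedZeroIsoSelf.hom.app S.X₃ = _ from
      F.rightDerivedZeroIsoSelf.hom.naturality S.g]
    infer_instance
  exact epi_of_epi (F.rightDerivedZeroIsoSelf.hom.app S.X₂) _

end single

lemma mono_cokernel_map_of_mono {W X Y : B} (p : W ⟶ X) (k : X ⟶ Y) [Mono k] :
    Mono (cokernel.map p (p ≫ k) (𝟙 W) k (by simp)) := by
  rw [Preadditive.mono_iff_cancel_zero]
  intro P x hx
  obtain ⟨P', π, hπ, q, hq⟩ := surjective_up_to_refinements_of_epi (cokernel.π p) x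
  have h0 : (q ≫ k) ≫ cokernel.π (p ≫ k) = 0 := by
    have : cokernel.π p ≫ cokernel.map p (p ≫ k) (𝟙 W) k (by simp) = k ≫ cokernel.π (p ≫ k) :=
      cokernel.π_desc _ _ _
    rw [Category.assoc, ← this, ← Category.assoc, ← hq, Category.assoc, hx, comp_zero]
  obtain ⟨P'', π', hπ', w, hw⟩ := (ShortComplex.exact_of_g_is_cokernel
    (ShortComplex.mk (p ≫ k) _ (cokernel.condition _))
    (cokernelIsCokernel (p ≫ k))).exact_up_to_refinements (q ≫ k) h0
  have hw' : (π' ≫ q) ≫ k = (w ≫ p) ≫ k := by simpa using hw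
  rw [cancel_mono] at hw'
  rw [← cancel_epi π, ← cancel_epi π', comp_zero, comp_zero, hq, ← Category.assoc, hw',
    Category.assoc, cokernel.condition, comp_zero]

variable [EnoughInjectives B] {D : Type u₃} [Category.{v₃} D] [Abelian D]
  (G : A ⥤ B) [G.Additive] [PreservesFiniteLimits G] (F : B ⥤ D) [F.Additive]
  [PreservesFiniteLimits F]

theorem exists_mono_rightDerived_comp (hinj : ∀ I : A, Injective I → Injective (G.obj I)) (n : ℕ) :
    ∀ X : A, (∀ j, 1 ≤ j → j ≤ n → IsZero ((G.rightDerived j).obj X)) →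
      ∃ m : (F.rightDerived (n + 1)).obj (G.obj X) ⟶ ((G ⋙ F).rightDerived (n + 1)).obj X, Mono m := by
  induction n with
  | zero =>
    intro X _
    let S := CohFin.injSeq X
    have hS := CohFin.injSeq_shortExact X
    have : Injective S.X₂ := inferInstanceAs (Injective (Injective.under X))
    have : Injective (G.obj S.X₂) := hinj _ inferInstance
    have : Mono S.f := hS.mono_f
    have : Mono (G.map S.f) := inferInstance
    have hGex : (S.map G).Exact := hS.exact.map_of_mono_of_preservesKernel G ‹_› inferInstance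
    let k : cokernel (G.map S.f) ⟶ G.obj S.X₃ :=
      cokernel.desc _ (G.map S.g) (by rw [← G.map_comp, S.zero, G.map_zero])
    have : Mono k := hGex.mono_cokernelDesc
    let T : ShortComplex B := ShortComplex.mk (G.map S.f) (cokernel.π _) (cokernel.condition _)
    have hT : T.ShortExact := CohFin.cokerSeq_shortExact' (G.map S.f)
    have : Injective T.X₂ := inferInstanceAs (Injective (G.obj S.X₂))
    obtain ⟨e₁⟩ := CohFin.nonempty_rightDerived_one_iso_of_injective (F := F) hT
    obtain ⟨e₂⟩ := CohFin.nonempty_rightDerived_one_iso_of_injective (F := G ⋙ F) hS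
    have : Mono (F.map k) := inferInstance
    have he : F.map T.g ≫ F.map k = (G ⋙ F).map S.g := by
      rw [← F.map_comp]
      exact congrArg F.map (cokernel.π_desc _ _ _)
    exact ⟨e₁.hom ≫ cokernel.map (F.map T.g) (F.map T.g ≫ F.map k) (𝟙 _) (F.map k) (by simp) ≫
      (cokernelIsoOfEq he).hom ≫ e₂.inv, @mono_comp _ _ _ _ _ _ inferInstance _ (@mono_comp _ _ _ _ _ _
        (mono_cokernel_map_of_mono (F.map T.g) (F.map k)) _ inferInstance)⟩
  | succ n ih =>
    intro X hX
    let S := CohFin.injSeq X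
    have hS := CohFin.injSeq_shortExact X
    have : Injective S.X₂ := inferInstanceAs (Injective (Injective.under X))
    have : Injective (G.obj S.X₂) := hinj _ inferInstance
    have : Mono S.f := hS.mono_f
    obtain ⟨c⟩ := CohFin.nonempty_rightDerived_one_iso_of_injective (F := G) hS
    have : Epi (G.map S.g) :=
      Preadditive.epi_of_isZero_cokernel _ ((hX 1 le_rfl (by omega)).of_iso c.symm)
    have hGS : (S.map G).ShortExact := ShortComplex.ShortExact.mk'
      (hS.exact.map_of_mono_of_preservesKernel G ‹_› inferInstance)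
      (inferInstanceAs (Mono (G.map S.f))) ‹_›
    have : Injective (S.map G).X₂ := inferInstanceAs (Injective (G.obj S.X₂))
    obtain ⟨e₁⟩ := CohFin.nonempty_rightDerived_shift (F := F) n (S.map G) hGS
      (CohFin.rightAcyclic_of_injective F _)
    obtain ⟨e₂⟩ := CohFin.nonempty_rightDerived_shift (F := G ⋙ F) n S hS
      (CohFin.rightAcyclic_of_injective _ _)
    obtain ⟨m, hm⟩ := ih S.X₃ fun j hj hjn => by
      obtain ⟨i, rfl⟩ : ∃ i, j = i + 1 := ⟨j - 1, by omega⟩
      obtain ⟨e⟩ := CohFin.nonempty_rightDerived_shift (F := G) i S hS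
        (CohFin.rightAcyclic_of_injective _ _)
      exact (hX (i + 2) (by omega) (by omega)).of_iso e.symm
    exact ⟨e₁.hom ≫ m ≫ e₂.inv, @mono_comp _ _ _ _ _ e₁.hom (IsIso.mono_of_iso e₁.hom) _
      (@mono_comp _ _ _ _ _ m hm _ (IsIso.mono_of_iso e₂.inv))⟩

end Groth.DescentBase.BigCart
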