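import Groth.Agent.DescentBase.BigCart.Compare
import Groth.Agent.DescentBase.BigCart.CechBig
import Groth.Agent.CohDescent.LocalHomeoDescent
import Groth.Agent.SiteCohomology.BigPiPull
import Groth.Prelude.Def_SpSeq

/-!
# Descent spectral sequences from a topology admissible for sheaves determined by geometric points
-/

set_option autoImplicit false
set_option backward.isDefEq.respectTransparency.types false
set_option maxHeartbeats 1000000
set_option synthInstance.maxHeartbeats 400000

universe u

open CategoryTheory CategoryTheory.Limits AlgebraicGeometry Opposite Simplicial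
open CategoryTheory.Abelian
open Groth.SiteCohomology

namespace Groth.DescentBase.BigCart

variable (K : Precoverage Scheme.{u}) {X Y : Scheme.{u}}

/-- The presheaf of sets represented by an object of the big site. -/
noncomputable abbrev hOb (C : Over Y) : (Over Y)ᵒᵖ ⥤ Type (u + 1) := uliftYoneda.{u + 1}.obj C

/-- Sections over an object, as a functor to sets. -/
noncomputable abbrev sectF (C : Over Y) : BigSite.Ab K Y ⥤ Type (u + 1) :=
  (sheafSections (QuotSh.J K Y) AddCommGrpCat.{u + 1}).obj (op C) ⋙ forget AddCommGrpCat.{u + 1}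

/-- The free sheaf on an object corepresents sections. -/
noncomputable def corepFree (C : Over Y) :
    (sectF K C).CorepresentableBy ((freeB (QuotSh.J K Y)).obj (hOb C)) where
  homEquiv {M} := ((freeBAdj (QuotSh.J K Y)).homEquiv (hOb C) M).trans uliftYonedaEquiv.{u + 1}
  homEquiv_comp g φ := by
    show uliftYonedaEquiv.{u + 1} ((freeBAdj (QuotSh.J K Y)).homEquiv (hOb C) _ (φ ≫ g)) = _
    rw [Adjunction.homEquiv_naturality_right]
    rfl

/-- The constant sheaf `ℤ` corepresents global sections. -/
noncomputable def corepConst (Z : Scheme.{u}) :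
    (sectF K (Over.mk (𝟙 Z))).CorepresentableBy
      ((constantSheaf (QuotSh.J K Z) AddCommGrpCat.{u + 1}).obj
        (AddCommGrpCat.of (ULift.{u + 1} ℤ))) where
  homEquiv {M} := ((constantSheafAdj (QuotSh.J K Z) AddCommGrpCat.{u + 1}
      (T := Over.mk (𝟙 Z)) Over.mkIdTerminal).homEquiv _ M).trans
    (AddCommGrpCat.uliftZMultiplesAddEquiv _).toEquiv
  homEquiv_comp g φ := by
    show AddCommGrpCat.uliftZMultiplesAddEquiv _ ((constantSheafAdj (QuotSh.J K Z) AddCommGrpCat.{u + 1}
      (T := Over.mk (𝟙 Z)) Over.mkIdTerminal).homEquiv _ _ (φ ≫ g)) = _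
    rw [Adjunction.homEquiv_naturality_right]
    rfl

/-- An object as the image of the terminal object of its own big site. -/
noncomputable def objIso (C : Over Y) : (Over.map C.hom).obj (Over.mk (𝟙 C.left)) ≅ C :=
  Over.isoMk (Iso.refl _) rfl

/-- `f_big! ℤ` corepresents sections over the object of `f`. -/
noncomputable def corepShriek (C : Over Y) :
    (sectF K C).CorepresentableBy ((BigSite.shriekAb K C.hom).obj
      ((constantSheaf (QuotSh.J K C.left) AddCommGrpCat.{u + 1}).obj
        (AddCommGrpCat.of (ULift.{u + 1} ℤ)))) where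
  homEquiv {M} := (((BigSite.shriekAbAdj K C.hom).homEquiv _ M).trans
    (corepConst K C.left).homEquiv).trans
      ((forget AddCommGrpCat.{u + 1}).mapIso (M.obj.mapIso (objIso C).op.symm)).toEquiv
  homEquiv_comp {M N} g φ := by
    show N.obj.map (objIso C).inv.op ((corepConst K C.left).homEquiv
      ((BigSite.shriekAbAdj K C.hom).homEquiv _ _ (φ ≫ g))) = _
    rw [Adjunction.homEquiv_naturality_right, (corepConst K C.left).homEquiv_comp]
    exact (ConcreteCategory.congr_hom (g.hom.naturality (objIso C).inv.op) _).symm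

/-- `Ext(ℤ[h_C], M) = H(C, M|)`. -/
theorem nonempty_ext_free_equiv (C : Over Y) (M : BigSite.Ab K Y) (n : ℕ) :
    Nonempty (Ext.{u + 1} ((freeB (QuotSh.J K Y)).obj (hOb C)) M n ≃+
      BigSite.H K C.left ((BigSite.pullBig K C.hom AddCommGrpCat.{u + 1}).obj M) n) := by
  obtain ⟨e⟩ := nonempty_ext_adjunction_equiv (BigSite.shriekAbAdj K C.hom)
    (fun I hI => @injective_pullBig _ K _ C.hom I hI)
    ((constantSheaf (QuotSh.J K C.left) AddCommGrpCat.{u + 1}).obj
      (AddCommGrpCat.of (ULift.{u + 1} ℤ))) M n
  exact ⟨(extIsoLeft ((corepShriek K C).uniqueUpToIso (corepFree K C)) M n).trans e.symm⟩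

/-- `Ext(ℤ[h_Y], M) = H(Y, M)`. -/
noncomputable def extFreeTopEquiv (M : BigSite.Ab K Y) (n : ℕ) :
    Ext.{u + 1} ((freeB (QuotSh.J K Y)).obj (hOb (Over.mk (𝟙 Y)))) M n ≃+ BigSite.H K Y M n :=
  extIsoLeft ((corepConst K Y).uniqueUpToIso (corepFree K (Over.mk (𝟙 Y)))) M n

variable (f : X ⟶ Y)

/-- The augmented Čech object of presheaves of sets of a morphism. -/
noncomputable def nerveB : SimplicialObject.Augmented ((Over Y)ᵒᵖ ⥤ Type (u + 1)) where
  left :=
    { obj := fun n =>
        { obj := fun V => Fin (n.unop.len + 1) → (hOb (Over.mk f)).obj V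
          map := fun i => ↾fun s k => (hOb (Over.mk f)).map i (s k) }
      map := fun θ =>
        { app := fun _ => ↾fun s k => s (θ.unop.toOrderHom k) } }
  right := hOb (Over.mk (𝟙 Y))
  hom := { app := fun n => { app := fun V => ↾fun _ => ULift.up (Over.mkIdTerminal.from V.unop)
                             naturality := fun _ _ _ => by
                               ext s
                               exact ULift.ext _ _ (Over.mkIdTerminal.hom_ext _ _) }
           naturality := fun _ _ _ => by
             ext V s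
             exact ULift.ext _ _ (Over.mkIdTerminal.hom_ext _ _) }

lemma isCechTypePresheaf_nerveB : IsCechTypePresheaf (nerveB f) := fun c =>
  { ext := fun n x y h => funext fun i => congrFun (h i) 0
    lift := fun n t _ => ⟨fun i => t i 0, fun i => funext fun k => by
      obtain rfl : k = 0 := Subsingleton.elim (α := Fin 1) _ _
      rfl⟩ }

theorem isLocallySurjective_nerveB
    (hcov : Sieve.generate (Presieve.singleton f) ∈ K.toGrothendieck Y) :
    Presheaf.IsLocallySurjective (QuotSh.J K Y) ((nerveB f).hom.app (op ⦋0⦌)) where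
  imageSieve_mem {U} x := by
    refine GrothendieckTopology.superset_covering _ ?_
      (GrothendieckTopology.overEquiv_symm_mem_over _ _ _ (K.toGrothendieck.pullback_stable U.hom hcov))
    intro V g hg
    obtain ⟨W, a, b, hb, hab⟩ := (Sieve.overEquiv_symm_iff _ _).1 hg
    cases hb
    let k : V ⟶ Over.mk f := Over.homMk a (hab.trans (Over.w g))
    exact ⟨fun _ => ULift.up k, ULift.ext _ _ (Over.mkIdTerminal.hom_ext _ _)⟩

/-- The object of a fibre power. -/
noncomputable abbrev powOb (p : ℕ) : Over Y :=
  Over.mk (WidePullback.base (fun _ : Fin (p + 1) => f) :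
    widePullback Y (fun _ : Fin (p + 1) => X) (fun _ => f) ⟶ Y)

/-- The fibre powers represent the terms of the Čech object. -/
noncomputable def powIso (p : ℕ) : hOb (powOb f p) ≅ (nerveB f).left.obj (op ⦋p⦌) :=
  NatIso.ofComponents (fun V =>
    Equiv.toIso
      { toFun := fun t i => ULift.up (Over.homMk
          (t.down.left ≫ WidePullback.π (fun _ : Fin (p + 1) => f) i) (by
            refine (Category.assoc _ _ _).trans ?_
            exact (congrArg (t.down.left ≫ ·) (WidePullback.π_arrow _ i)).trans (Over.w t.down)))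
        invFun := fun s => ULift.up (Over.homMk
          (WidePullback.lift V.unop.hom (fun i => (s i).down.left) fun i => Over.w (s i).down)
          (WidePullback.lift_base _ _ _ _))
        left_inv := fun t => by
          refine ULift.ext _ _ (Over.OverMorphism.ext ?_)
          apply WidePullback.hom_ext
          · intro i
            exact WidePullback.lift_π _ _ _ _ i
          · exact (WidePullback.lift_base _ _ _ _).trans (Over.w t.down).symm
        right_inv := fun s => funext fun i => ULift.ext _ _ (Over.OverMorphism.ext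
          (WidePullback.lift_π _ _ _ _ i)) })
    fun {V W} h => by
      ext t
      funext i
      exact ULift.ext _ _ (Over.OverMorphism.ext (Category.assoc _ _ _))

variable [Adm K]

/-- Cohomology over an object of a sheaf coming from the small étale site. -/
theorem nonempty_H_pull_equiv (F : EtCoh.Ab Y) (C : Over Y) (n : ℕ) :
    Nonempty (BigSite.H K C.left ((BigSite.pullBig K C.hom AddCommGrpCat.{u + 1}).obj (piK K F)) n ≃+
      EtCoh.H C.left ((EtCoh.pull C.hom).obj F) n) := by
  obtain ⟨e⟩ := nonempty_H_equiv K (S := C.left)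
    (M := (BigSite.pullBig K C.hom AddCommGrpCat.{u + 1}).obj (piK K F))
    ((isCart_piK K F).pullBig C.hom) n
  obtain ⟨i⟩ := Groth.SiteCohomology.nonempty_piEtPull_resEtAlong_iso C.hom
  let j : (BigSite.resEt K C.left).obj ((BigSite.pullBig K C.hom AddCommGrpCat.{u + 1}).obj (piK K F)) ≅
      (EtCoh.pull C.hom).obj F := i.app F
  exact ⟨e.symm.trans (extIsoRight j _ n)⟩

theorem exists_descent_spectralSequence
    (hcov : Sieve.generate (Presieve.singleton f) ∈ K.toGrothendieck Y) (F : EtCoh.Ab Y) :
    ∃ (E : CohomologicalSpectralSequence AddCommGrpCat.{u + 1} 1)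
      (a : SpSeq.Abutment E (fun n : ℤ =>
        if 0 ≤ n then AddCommGrpCat.of (EtCoh.H Y F n.toNat) else AddCommGrpCat.of PUnit.{u + 2})),
      (∀ n, a.IsFinite n) ∧ SpSeq.IsBounded E ∧
      ∀ p q : ℤ, Nonempty ((E.page 1 le_rfl).X (p, q) ≅
        (if 0 ≤ p ∧ 0 ≤ q then
          AddCommGrpCat.of (EtCoh.H (widePullback Y (fun _ : Fin (p.toNat + 1) => X) (fun _ => f))
            ((EtCoh.pull (WidePullback.base (fun _ : Fin (p.toNat + 1) => f) :
              widePullback Y (fun _ : Fin (p.toNat + 1) => X) (fun _ => f) ⟶ Y)).obj F) q.toNat)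
         else AddCommGrpCat.of PUnit.{u + 2})) := by
  let A := BigSite.Ab K Y
  letI : HasDerivedCategory.{u + 1} A := Groth.Agent.CohDescent.hasSmallDerivedCategory A
  letI : HasDerivedCategory.{u + 1} Aᵒᵖ := Groth.Agent.CohDescent.hasDerivedCategoryOp A
  haveI : HasExt.{u + 1} Aᵒᵖ := hasExt_of_hasDerivedCategory Aᵒᵖ
  let M := piK K F
  obtain ⟨r⟩ := nonempty_resEt_piK_iso K F
  have := isLocallySurjective_nerveB K f hcov
  have haug := isAugResolution_freeB (QuotSh.J K Y) (nerveB f) (isCechTypePresheaf_nerveB f)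
  have hres := Groth.Agent.CohDescent.isResolution_op _ _ _ haug
  obtain ⟨E, a, ha, hb, hE⟩ := Groth.Agent.CohDescent.exists_spectralSequence_of_isResolution (op M) _ _ _ _ hres
    (fun n : ℤ => if 0 ≤ n then AddCommGrpCat.of (EtCoh.H Y F n.toNat) else AddCommGrpCat.of PUnit.{u + 2})
    (fun n => by
      by_cases hn : 0 ≤ n
      · rw [if_pos hn, if_pos hn]
        obtain ⟨e⟩ := Groth.Agent.CohDescent.nonempty_extOp_equiv
          ((freeB (QuotSh.J K Y)).obj (hOb (Over.mk (𝟙 Y)))) n.toNat M
        obtain ⟨h⟩ := nonempty_H_equiv K (isCart_piK K F) n.toNat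
        exact ⟨AddEquiv.toAddCommGrpIso
          (((e.trans (extFreeTopEquiv K M n.toNat)).trans h.symm).trans (extIsoRight r _ n.toNat))⟩
      · rw [if_neg hn, if_neg hn]
        exact ⟨Iso.refl _⟩)
  refine ⟨E, a, ha, hb, fun p q => ?_⟩
  obtain ⟨i⟩ := hE p q
  by_cases h : 0 ≤ p ∧ 0 ≤ q
  · rw [if_pos h] at i ⊢
    obtain ⟨e₁⟩ := Groth.Agent.CohDescent.nonempty_extOp_equiv
      ((freeB (QuotSh.J K Y)).obj ((nerveB f).left.obj (op ⦋p.toNat⦌))) q.toNat M
    obtain ⟨e₂⟩ := nonempty_ext_free_equiv K (powOb f p.toNat) M q.toNat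
    obtain ⟨e₃⟩ := nonempty_H_pull_equiv K F (powOb f p.toNat) q.toNat
    exact ⟨i ≪≫ AddEquiv.toAddCommGrpIso (((e₁.trans
      (extIsoLeft ((freeB (QuotSh.J K Y)).mapIso (powIso f p.toNat)) M q.toNat)).trans e₂).trans e₃)⟩
  · rw [if_neg h] at i ⊢
    exact ⟨i⟩

end Groth.DescentBase.BigCart
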