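import Groth.Agent.DescentBase.BigCart.PiPull
import Groth.Agent.EtaleBase.PushStalkFinite
import Groth.Agent.EtaleBase.RpushExact
import Groth.Agent.SiteCohomology.BigRpush

/-!
# Direct images of finite morphisms commute with inverse images to the big étale site
-/

set_option autoImplicit false
set_option backward.isDefEq.respectTransparency.types false

universe u

open CategoryTheory CategoryTheory.Limits AlgebraicGeometry Opposite

namespace Groth.DescentBase.BigCart

open Groth.EtaleBase

variable {S T : Scheme.{u}} (f : T ⟶ S) {H : AbB T}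

/-- Push forward along integral morphisms keeps the separation property. -/
lemma IsCart.sep_pushBig [IsIntegralHom f] (hH : IsCart H) (C : Over S) {Ω : Type u} [Field Ω]
    [IsAlgClosed Ω] (ξ : Spec (CommRingCat.of Ω) ⟶ C.left)
    (s : ((BigSite.pushBig Scheme.etalePrecoverage f AddCommGrpCat.{u + 1}).obj H).obj.obj (op C))
    (hs : ((BigSite.pushBig Scheme.etalePrecoverage f AddCommGrpCat.{u + 1}).obj H).obj.map
      (ptHom C ξ).op s = 0) :
    ∃ (V : Over S) (g : V ⟶ C), Etale g.left ∧ ξ.base default ∈ Set.range g.left.base ∧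
      ((BigSite.pushBig Scheme.etalePrecoverage f AddCommGrpCat.{u + 1}).obj H).obj.map g.op s = 0 := by
  let P := pullback C.hom f
  let f' : P ⟶ C.left := pullback.fst C.hom f
  let q : P ⟶ T := pullback.snd C.hom f
  have : IsIntegralHom f' := MorphismProperty.pullback_fst _ _ ‹_›
  let HP := (BigSite.pullBig Scheme.etalePrecoverage q AddCommGrpCat.{u + 1}).obj H
  have hHP : IsCart HP := hH.pullBig q
  let top : C.left.Etale := EtCoh.top C.left
  let r : (Over.map q).obj ((EtFppf.a P).obj ((EtCoh.bc f').obj top)) ⟶ (Over.pullback f).obj C :=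
    Over.homMk (pullback.snd (𝟙 C.left) f') rfl
  let σ : ((BigSite.resEt Scheme.etalePrecoverage P).obj HP).obj.obj (op ((EtCoh.bc f').obj top)) :=
    H.obj.map r.op s
  let l₀ : (Scheme.pointSmallEtale ξ).fiber.obj top := Over.homMk (U := Over.mk ξ) ξ (Category.comp_id _)
  have hval : ∀ (ζ : Spec (CommRingCat.of Ω) ⟶ P) (h : ζ ≫ f' = ξ),
      germ ζ ((BigSite.resEt Scheme.etalePrecoverage P).obj HP) ((EtCoh.bc f').obj top)
        (pushLift f' ζ h top l₀) σ = 0 := fun ζ h => by
    refine hHP.germ_eq_zero _ (pushLift f' ζ h top l₀) σ ?_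
    let L : Over.mk ζ ⟶ (EtFppf.a P).obj ((EtCoh.bc f').obj top) := pushLift f' ζ h top l₀
    let j : (Over.map q).obj (Over.mk ζ) ⟶ (Over.pullback f).obj (ptObj C ξ) :=
      Over.homMk (pullback.lift (𝟙 _) (ζ ≫ q) (by
        show 𝟙 _ ≫ ξ ≫ C.hom = (ζ ≫ q) ≫ f
        rw [Category.id_comp, Category.assoc, ← pullback.condition, reassoc_of% h]))
        (pullback.lift_snd _ _ _)
    have hj : (Over.map q).map L ≫ r = j ≫ (Over.pullback f).map (ptHom C ξ) := by
      apply Over.OverMorphism.ext
      show L.left ≫ pullback.snd (𝟙 C.left) f' = j.left ≫ ((Over.pullback f).map (ptHom C ξ)).left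
      refine (pullback.lift_snd _ _ _).trans ?_
      apply pullback.hom_ext
      · refine h.trans ?_
        symm
        refine (Category.assoc _ _ _).trans ((congrArg (_ ≫ ·) (pullback.lift_fst _ _ _)).trans ?_)
        exact (pullback.lift_fst_assoc _ _ _ _).trans (Category.id_comp _)
      · symm
        refine (Category.assoc _ _ _).trans ((congrArg (_ ≫ ·) (pullback.lift_snd _ _ _)).trans ?_)
        exact pullback.lift_snd _ _ _
    show H.obj.map ((Over.map q).map L).op (H.obj.map r.op s) = 0
    rw [← ConcreteCategory.comp_apply, ← Functor.map_comp, ← op_comp, hj, op_comp,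
      Functor.map_comp, ConcreteCategory.comp_apply]
    exact (congrArg (H.obj.map j.op) hs).trans (map_zero _)
  obtain ⟨W, g, w, hw, hz⟩ := (germ_eq_zero_iff ξ _ top l₀ _).1
    (germ_push_eq_zero f' ξ ((BigSite.resEt Scheme.etalePrecoverage P).obj HP) top l₀ σ hval)
  let g' : Over.mk (W.hom ≫ C.hom) ⟶ C := Over.homMk W.hom
  refine ⟨_, g', W.prop, ⟨(show Spec (CommRingCat.of Ω) ⟶ W.left from w.left).base default,
    congrArg (fun k : Spec (CommRingCat.of Ω) ⟶ C.left => k.base default) (Over.w w)⟩, ?_⟩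
  have hzero : H.obj.map (((Over.map q).map ((EtFppf.a P).map ((EtCoh.bc f').map g))) ≫ r).op s = 0 := by
    rw [op_comp, Functor.map_comp, ConcreteCategory.comp_apply]
    exact hz
  let k : (Over.pullback f).obj (Over.mk (W.hom ≫ C.hom)) ⟶
      (Over.map q).obj ((EtFppf.a P).obj ((EtCoh.bc f').obj W)) :=
    Over.homMk (pullback.lift (pullback.fst (W.hom ≫ C.hom) f)
      (pullback.lift (pullback.fst (W.hom ≫ C.hom) f ≫ W.hom) (pullback.snd (W.hom ≫ C.hom) f)
        ((Category.assoc _ _ _).trans pullback.condition))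
      (pullback.lift_fst _ _ _).symm) (by
      show pullback.lift _ _ _ ≫ pullback.snd W.hom f' ≫ q = pullback.snd (W.hom ≫ C.hom) f
      rw [pullback.lift_snd_assoc]
      exact pullback.lift_snd _ _ _)
  have hk : (Over.pullback f).map g' =
      k ≫ ((Over.map q).map ((EtFppf.a P).map ((EtCoh.bc f').map g))) ≫ r := by
    apply Over.OverMorphism.ext
    show ((Over.pullback f).map g').left =
      k.left ≫ ((EtCoh.bc f').map g).left ≫ pullback.snd (𝟙 C.left) f'
    have e : ((EtCoh.bc f').map g).left ≫ pullback.snd (𝟙 C.left) f' = pullback.snd W.hom f' :=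
      pullback.lift_snd _ _ _
    refine Eq.trans ?_ (congrArg (k.left ≫ ·) e).symm
    refine Eq.trans ?_ (pullback.lift_snd _ _ _).symm
    apply pullback.hom_ext
    · exact (pullback.lift_fst _ _ _).trans (pullback.lift_fst _ _ _).symm
    · exact (pullback.lift_snd _ _ _).trans (pullback.lift_snd _ _ _).symm
  show H.obj.map ((Over.pullback f).map g').op s = 0
  rw [hk, op_comp, Functor.map_comp, ConcreteCategory.comp_apply, hzero, map_zero]

/-- Push forward along finite morphisms keeps `IsCart`. -/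
theorem IsCart.pushBig [IsFinite f] (hH : IsCart H) :
    IsCart ((BigSite.pushBig Scheme.etalePrecoverage f AddCommGrpCat.{u + 1}).obj H) where
  sep C Ω _ _ ξ s hs := hH.sep_pushBig f C ξ s hs
  lift {Ω} _ _ ξ x := by
    classical
    let M := (BigSite.resEt Scheme.etalePrecoverage T).obj H
    let X₀ := (Over.pullback f).obj (Over.mk ξ)
    let pj : ∀ ζ : {ζ : Spec (CommRingCat.of Ω) ⟶ T // ζ ≫ f = ξ}, Over.mk ζ.1 ⟶ X₀ := fun ζ =>
      Over.homMk (pullback.lift (𝟙 _) ζ.1 ((Category.id_comp ξ).trans ζ.2.symm))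
        (pullback.lift_snd _ _ _)
    choose U l t ht using fun ζ : {ζ : Spec (CommRingCat.of Ω) ⟶ T // ζ ≫ f = ξ} =>
      hH.lift ζ.1 (H.obj.map (pj ζ).op x)
    obtain ⟨V, sV, σ, hσ⟩ := exists_germ_push_values f ξ M
      (fun ζ => germ ζ.1 M (U ζ) (l ζ) (t ζ))
    let r : (Over.pullback f).obj ((EtFppf.a S).obj V) ⟶ (EtFppf.a T).obj ((EtCoh.bc f).obj V) :=
      Over.homMk (𝟙 _) (Category.id_comp _)
    refine ⟨V, sV, H.obj.map r.op σ, ?_⟩
    show H.obj.map ((Over.pullback f).map sV).op (H.obj.map r.op σ) = x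
    have key : ∀ ζ, H.obj.map (pj ζ).op (H.obj.map ((Over.pullback f).map sV).op (H.obj.map r.op σ)) =
        H.obj.map (pj ζ).op x := fun ζ => by
      have e : (pj ζ) ≫ (Over.pullback f).map sV ≫ r = pushLift f ζ.1 ζ.2 V sV := by
        apply Over.OverMorphism.ext
        show (pj ζ).left ≫ ((Over.pullback f).map sV).left ≫ 𝟙 _ = _
        rw [Category.comp_id]
        apply pullback.hom_ext
        · refine (Category.assoc _ _ _).trans ((congrArg (_ ≫ ·) (pullback.lift_fst _ _ _)).trans ?_)
          refine (pullback.lift_fst_assoc _ _ _ _).trans ((Category.id_comp _).trans ?_)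
          exact (pullback.lift_fst _ _ _).symm
        · refine (Category.assoc _ _ _).trans ((congrArg (_ ≫ ·) (pullback.lift_snd _ _ _)).trans ?_)
          exact (pullback.lift_snd _ _ _).trans (pullback.lift_snd _ _ _).symm
      have e2 : H.obj.map (pj ζ).op (H.obj.map ((Over.pullback f).map sV).op (H.obj.map r.op σ)) =
          H.obj.map (pj ζ ≫ (Over.pullback f).map sV ≫ r).op σ := by
        rw [op_comp, op_comp, Functor.map_comp, Functor.map_comp]
        rfl
      refine e2.trans ?_
      rw [e]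
      exact (map_eq_of_germ_eq H _ (l ζ) σ (t ζ) (hσ ζ)).trans (ht ζ)
    refine sub_eq_zero.1 (hH.eq_zero_of_exists _ fun z => ?_)
    have hfin : IsFinite (pullback.fst ξ f) := MorphismProperty.pullback_fst _ _ ‹_›
    obtain ⟨ζ₀, hζ₀, hz₀⟩ := exists_lift_point (pullback.fst ξ f) (𝟙 (Spec (CommRingCat.of Ω))) z
      (Subsingleton.elim (α := PrimeSpectrum Ω) _ _)
    let ζ : {ζ : Spec (CommRingCat.of Ω) ⟶ T // ζ ≫ f = ξ} := ⟨ζ₀ ≫ pullback.snd ξ f, by
      rw [Category.assoc, ← pullback.condition, reassoc_of% hζ₀]⟩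
    refine ⟨Ω, _, inferInstance, ζ₀, hz₀, ?_⟩
    have hpt : ptHom X₀ ζ₀ = pj ζ := by
      apply Over.OverMorphism.ext
      show ζ₀ = (pj ζ).left
      apply pullback.hom_ext
      · exact hζ₀.trans (pullback.lift_fst _ _ _).symm
      · exact (pullback.lift_snd _ _ _).symm
    show H.obj.map (ptHom X₀ ζ₀).op _ = 0
    rw [map_sub, hpt]
    exact sub_eq_zero.2 (key ζ)

/-- `π⁻¹ f_* ≅ f_big,* π⁻¹` for finite morphisms. -/
theorem nonempty_piEtPull_push_iso [IsFinite f] (F : EtCoh.Ab T) :
    Nonempty ((BigSite.piEtPull Scheme.etalePrecoverage S).obj ((EtCoh.push f).obj F) ≅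
      (BigSite.pushBig Scheme.etalePrecoverage f AddCommGrpCat.{u + 1}).obj
        ((BigSite.piEtPull Scheme.etalePrecoverage T).obj F)) := by
  have h := IsCart.pushBig f (isCart_piEtPull F)
  obtain ⟨e⟩ := Groth.SiteCohomology.nonempty_pushBig_resEt_iso f
  have := isIso_unit F
  exact ⟨(BigSite.piEtPull Scheme.etalePrecoverage S).mapIso
    ((EtCoh.push f).mapIso (asIso ((BigSite.piEtAdj Scheme.etalePrecoverage T).unit.app F)) ≪≫
      (e.app _).symm) ≪≫ isoOfIsCart h⟩

/-- A big étale sheaf whose restrictions to all small étale sites vanish is zero. -/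
lemma isZero_of_resEtAlong (G : AbB S)
    (h : ∀ {W : Scheme.{u}} (g : W ⟶ S), IsZero ((BigSite.resEtAlong Scheme.etalePrecoverage g).obj G)) :
    IsZero G := by
  have hsub : ∀ C : Over S, Subsingleton (G.obj.obj (op C)) := fun C => by
    have h1 := IsZero.iff_id_eq_zero _ |>.1 (h C.hom)
    refine subsingleton_of_forall_eq 0 fun s => ?_
    let j : C ⟶ (Over.map C.hom).obj ((EtFppf.a C.left).obj (EtCoh.top C.left)) :=
      Over.homMk (𝟙 _) ((Category.id_comp _).trans (Category.id_comp _))
    let j' : (Over.map C.hom).obj ((EtFppf.a C.left).obj (EtCoh.top C.left)) ⟶ C :=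
      Over.homMk (𝟙 _) rfl
    have hj : j ≫ j' = 𝟙 _ := Over.OverMorphism.ext (Category.id_comp _)
    have h2 := ConcreteCategory.congr_hom
      (congrArg (fun k => k.hom.app (op (EtCoh.top C.left))) h1) (G.obj.map j'.op s)
    have h3 := congrArg (G.obj.map j.op) h2
    have h4 : G.obj.map j.op (G.obj.map j'.op s) = s := by
      rw [← ConcreteCategory.comp_apply, ← Functor.map_comp, ← op_comp, hj, op_id,
        CategoryTheory.Functor.map_id]
      rfl
    exact h4.symm.trans (h3.trans (map_zero _))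
  rw [IsZero.iff_id_eq_zero]
  ext C x
  exact (hsub C.unop).elim _ _

theorem nonempty_piEtPull_Rpush_iso [IsFinite f] (F : EtCoh.Ab T) (q : ℕ) :
    Nonempty ((BigSite.piEtPull Scheme.etalePrecoverage S).obj ((EtCoh.Rpush f q).obj F) ≅
      (BigSite.RpushBig Scheme.etalePrecoverage f q).obj
        ((BigSite.piEtPull Scheme.etalePrecoverage T).obj F)) := by
  cases q with
  | zero =>
    obtain ⟨e⟩ := nonempty_piEtPull_push_iso f F
    have hp : PreservesFiniteLimits (EtCoh.push f) :=
      (EtCoh.pullPushAdj f).rightAdjoint_preservesLimits.{0, 0}.preservesFiniteLimits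
    have hb : PreservesFiniteLimits
        (BigSite.pushBig Scheme.etalePrecoverage f AddCommGrpCat.{u + 1}) :=
      (BigSite.bigAdj Scheme.etalePrecoverage f
        AddCommGrpCat.{u + 1}).rightAdjoint_preservesLimits.{0, 0}.preservesFiniteLimits
    exact ⟨(BigSite.piEtPull Scheme.etalePrecoverage S).mapIso
      ((EtCoh.push f).rightDerivedZeroIsoSelf.app F) ≪≫ e ≪≫
        ((BigSite.pushBig Scheme.etalePrecoverage f
          AddCommGrpCat.{u + 1}).rightDerivedZeroIsoSelf.app _).symm⟩
  | succ k =>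
    have : PreservesFiniteLimits (BigSite.piEtPull Scheme.etalePrecoverage S) :=
      Groth.SiteCohomology.preservesFiniteLimits_piEtPull _ S
    have : (BigSite.piEtPull Scheme.etalePrecoverage S).Additive :=
      Functor.additive_of_preserves_binary_products _
    refine ⟨IsZero.iso ((BigSite.piEtPull Scheme.etalePrecoverage S).map_isZero
      (isZero_Rpush f F (k + 1) (by omega))) (isZero_of_resEtAlong _ fun {W} g => ?_)⟩
    have : IsFinite (pullback.snd f g) := MorphismProperty.pullback_snd _ _ ‹_›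
    obtain ⟨e⟩ := Groth.SiteCohomology.nonempty_resEtAlong_RpushBig
      (IsPullback.of_hasPullback f g) ((BigSite.piEtPull Scheme.etalePrecoverage T).obj F) (k + 1)
    exact (isZero_Rpush (pullback.snd f g) _ (k + 1) (by omega)).of_iso e

end Groth.DescentBase.BigCart
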