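import Groth.Agent.DescentBase.BigCart.Adm
import Groth.Agent.DescentBase.BigCart.Derived
import Groth.Agent.DescentBase.BigCart.Push
import Groth.Agent.SiteCohomology.BigRpush

/-!
# The functor from `K`-sheaves to étale sheaves on big sites, and finite direct images
-/

set_option autoImplicit false
set_option backward.isDefEq.respectTransparency.types false
set_option maxHeartbeats 400000

universe u

open CategoryTheory CategoryTheory.Limits AlgebraicGeometry Opposite

namespace Groth.DescentBase.BigCart

variable (K : Precoverage Scheme.{u}) [Adm K] {S T : Scheme.{u}}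

/-- A `K`-sheaf as an étale sheaf. -/
noncomputable abbrev epsK (S : Scheme.{u}) : BigSite.Ab K S ⥤ AbB S :=
  BigSite.eps Scheme.etalePrecoverage K S AddCommGrpCat.{u + 1}

/-- `K`-sheafification. -/
noncomputable abbrev shK (S : Scheme.{u}) : AbB S ⥤ BigSite.Ab K S :=
  sheafToPresheaf (J S) AddCommGrpCat.{u + 1} ⋙
    presheafToSheaf (QuotSh.J K S) AddCommGrpCat.{u + 1}

/-- Inverse image on big sites. -/
noncomputable abbrev pullK (f : T ⟶ S) : BigSite.Ab K S ⥤ BigSite.Ab K T :=
  BigSite.pullBig K f AddCommGrpCat.{u + 1}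

/-- Direct image on big sites. -/
noncomputable abbrev pushK (f : T ⟶ S) : BigSite.Ab K T ⥤ BigSite.Ab K S :=
  BigSite.pushBig K f AddCommGrpCat.{u + 1}

/-- Inverse image on big étale sites. -/
noncomputable abbrev pullE (f : T ⟶ S) : AbB S ⥤ AbB T :=
  BigSite.pullBig Scheme.etalePrecoverage f AddCommGrpCat.{u + 1}

/-- Direct image on big étale sites. -/
noncomputable abbrev pushE (f : T ⟶ S) : AbB T ⥤ AbB S :=
  BigSite.pushBig Scheme.etalePrecoverage f AddCommGrpCat.{u + 1}

/-- The comparison functor is fully faithful. -/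
def epsKFullyFaithful (S : Scheme.{u}) : (epsK K S).FullyFaithful where
  preimage {F G} ψ := ⟨{ app := fun U => ψ.hom.app U
                         naturality := fun {U V} g => ψ.hom.naturality g }⟩

instance full_epsK : (epsK K S).Full := (epsKFullyFaithful K S).full

instance faithful_epsK : (epsK K S).Faithful := (epsKFullyFaithful K S).faithful

/-- Sheafification is left adjoint to the comparison functor. -/
noncomputable def shAdj (S : Scheme.{u}) : shK K S ⊣ epsK K S :=
  Adjunction.mkOfHomEquiv
    { homEquiv := fun F G => ((sheafificationAdjunction (QuotSh.J K S) AddCommGrpCat.{u + 1}).homEquiv F.obj G).trans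
        { toFun := fun φ => ⟨φ⟩
          invFun := fun ψ => ψ.hom
          left_inv := fun _ => rfl
          right_inv := fun _ => rfl }
      homEquiv_naturality_left_symm := fun {F F' G} φ ψ =>
        (sheafificationAdjunction (QuotSh.J K S) AddCommGrpCat.{u + 1}).homEquiv_naturality_left_symm φ.hom ψ.hom
      homEquiv_naturality_right := fun {F G G'} φ ψ => Sheaf.hom_ext
        ((sheafificationAdjunction (QuotSh.J K S) AddCommGrpCat.{u + 1}).homEquiv_naturality_right φ ψ) }

instance preservesFiniteLimits_shK : PreservesFiniteLimits (shK K S) := by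
  have : PreservesFiniteLimits (sheafToPresheaf (J S) AddCommGrpCat.{u + 1}) :=
    (sheafificationAdjunction (J S) AddCommGrpCat.{u + 1}).rightAdjoint_preservesLimits.{0, 0}.preservesFiniteLimits
  infer_instance

instance preservesFiniteColimits_shK : PreservesFiniteColimits (shK K S) :=
  (shAdj K S).leftAdjoint_preservesColimits.{0, 0}.preservesFiniteColimits

instance additive_shK : (shK K S).Additive := (shAdj K S).left_adjoint_additive

instance preservesFiniteLimits_epsK : PreservesFiniteLimits (epsK K S) :=
  (shAdj K S).rightAdjoint_preservesLimits.{0, 0}.preservesFiniteLimits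

lemma injective_epsK (I : BigSite.Ab K S) [Injective I] : Injective ((epsK K S).obj I) :=
  Groth.SiteCohomology.injective_map_of_adjunction (shAdj K S) I

/-- Sheafifying a sheaf does nothing. -/
noncomputable def shIso (S : Scheme.{u}) : epsK K S ⋙ shK K S ≅ 𝟭 (BigSite.Ab K S) :=
  haveI : IsIso (shAdj K S).counit := (shAdj K S).counit_isIso_of_R_fully_faithful
  asIso (shAdj K S).counit

lemma isIso_counit_shAdj (M : BigSite.Ab K S) : IsIso ((shAdj K S).counit.app M) :=
  haveI : IsIso (shAdj K S).counit := (shAdj K S).counit_isIso_of_R_fully_faithful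
  inferInstance

lemma injective_pushK (f : T ⟶ S) (I : BigSite.Ab K T) [Injective I] : Injective ((pushK K f).obj I) :=
  Groth.SiteCohomology.injective_map_of_adjunction (BigSite.bigAdj K f AddCommGrpCat.{u + 1}) I

instance preservesFiniteLimits_pushK (f : T ⟶ S) : PreservesFiniteLimits (pushK K f) :=
  (BigSite.bigAdj K f AddCommGrpCat.{u + 1}).rightAdjoint_preservesLimits.{0, 0}.preservesFiniteLimits

instance preservesFiniteLimits_pushE (f : T ⟶ S) : PreservesFiniteLimits (pushE f) :=
  (BigSite.bigAdj Scheme.etalePrecoverage f AddCommGrpCat.{u + 1}).rightAdjoint_preservesLimits.{0, 0}.preservesFiniteLimits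

omit [Adm K] in
lemma isZero_RpushE_succ (f : T ⟶ S) [IsFinite f] (G : AbB T) (k : ℕ) :
    IsZero ((BigSite.RpushBig Scheme.etalePrecoverage f (k + 1)).obj G) :=
  isZero_of_resEtAlong _ fun {W} g => by
    let g' := pullback.fst f g
    have c : IsPullback g' (pullback.snd f g) f g := IsPullback.of_hasPullback f g
    obtain ⟨e⟩ := Groth.SiteCohomology.nonempty_resEtAlong_RpushBig c G (k + 1)
    have : IsFinite (pullback.snd f g) := MorphismProperty.pullback_snd _ _ ‹_›
    exact (Groth.EtaleBase.isZero_Rpush (pullback.snd f g) _ (k + 1) (by omega)).of_iso e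

omit [Adm K] in
/-- Direct image along a finite morphism is exact on big étale sites. -/
theorem preservesFiniteColimits_pushE (f : T ⟶ S) [IsFinite f] :
    PreservesFiniteColimits (pushE f) := by
  have : (pushE f).PreservesEpimorphisms := ⟨fun {G H} φ _ => by
    let Z := ShortComplex.mk (kernel.ι φ) φ (kernel.condition φ)
    have hZ : Z.ShortExact :=
      { exact := ShortComplex.exact_of_f_is_kernel _ (kernelIsKernel φ)
        mono_f := inferInstanceAs (Mono (kernel.ι φ))
        epi_g := ‹Epi φ› }
    exact epi_map_of_isZero_one (pushE f) hZ (isZero_RpushE_succ f _ 0)⟩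
  have := (pushE f).preservesHomology_of_preservesEpis_and_kernels
  exact (pushE f).preservesFiniteColimits_of_preservesHomology

/-- The comparison functor commutes with inverse images. -/
noncomputable def epsPullIso (f : T ⟶ S) : pullK K f ⋙ epsK K T ≅ epsK K S ⋙ pullE f := Iso.refl _

/-- The comparison functor commutes with direct images. -/
noncomputable def epsPushIso (f : T ⟶ S) : pushK K f ⋙ epsK K S ≅ epsK K T ⋙ pushE f := Iso.refl _

omit [Adm K] in
/-- Cokernels of morphisms between sheaves determined by points are of the same kind. -/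
theorem isCart_cokernel {G H : AbB S} (φ : G ⟶ H) (hG : IsCart G) (hH : IsCart H) :
    IsCart (cokernel φ) := by
  let P := BigSite.piEtPull Scheme.etalePrecoverage S
  let R := BigSite.resEt Scheme.etalePrecoverage S
  let adj := BigSite.piEtAdj Scheme.etalePrecoverage S
  have := isIso_counit hG
  have := isIso_counit hH
  have : PreservesColimitsOfSize.{0, 0} P := adj.leftAdjoint_preservesColimits
  let e : cokernel (P.map (R.map φ)) ≅ cokernel φ :=
    cokernel.mapIso _ _ (asIso (adj.counit.app G)) (asIso (adj.counit.app H)) (adj.counit.naturality φ)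
  exact (isCart_piEtPull (cokernel (R.map φ))).of_iso (PreservesCokernel.iso P (R.map φ) ≪≫ e)

/-- The unit of inverse and direct image. -/
noncomputable def unitK (f : T ⟶ S) (M : BigSite.Ab K S) : M ⟶ (pushK K f).obj ((pullK K f).obj M) :=
  ⟨{ app := fun C => M.obj.map ((Over.mapPullbackAdj f).counit.app C.unop).op
     naturality := fun {C D} h => by
       show M.obj.map h ≫ M.obj.map _ = M.obj.map _ ≫ M.obj.map _
       rw [← Functor.map_comp, ← Functor.map_comp]
       exact congrArg M.obj.map (Quiver.Hom.unop_inj ((Over.mapPullbackAdj f).counit.naturality h.unop).symm) }⟩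

lemma mono_unitK (f : T ⟶ S) [IsFinite f] [Surjective f] {M : BigSite.Ab K S}
    (hM : IsCart ((epsK K S).obj M)) : Mono (unitK K f M) := by
  refine Preadditive.mono_of_cancel_zero _ fun {N} a ha => ?_
  refine Sheaf.hom_ext (NatTrans.ext (funext fun C => AddCommGrpCat.ext fun x => ?_))
  refine IsCart.eq_zero_of_exists hM (C := C.unop) _ fun c => ?_
  let p := pullback.fst C.unop.hom f
  have hs : Surjective p := MorphismProperty.pullback_fst _ _ ‹_›
  obtain ⟨z, hz⟩ := hs.surj c
  let ζ := Groth.DescentBase.acPoint z
  refine ⟨_, _, inferInstance, ζ ≫ p, ?_, ?_⟩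
  · rw [Scheme.Hom.comp_apply, Groth.DescentBase.acPoint_apply, hz]
  · let k : ptObj C.unop (ζ ≫ p) ⟶ (Over.map f).obj ((Over.pullback f).obj C.unop) :=
      Over.homMk ζ (by
        exact (congrArg (ζ ≫ ·) pullback.condition.symm).trans (Category.assoc _ _ _).symm)
    have hk : k ≫ (Over.mapPullbackAdj f).counit.app C.unop = ptHom C.unop (ζ ≫ p) :=
      Over.OverMorphism.ext (congrArg (ζ ≫ ·) (Over.mapPullbackAdj_counit_app f C.unop ▸ rfl))
    have h1 := congrArg (fun φ => φ.hom.app C x) ha
    show M.obj.map (ptHom C.unop (ζ ≫ p)).op (a.hom.app C x) = 0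
    rw [← hk, op_comp, Functor.map_comp, ConcreteCategory.comp_apply]
    exact (congrArg (M.obj.map k.op) h1).trans (map_zero _)

/-- The short exact sequence of the unit along a finite surjective morphism. -/
theorem exists_unit_ses (f : T ⟶ S) [IsFinite f] [Surjective f] {M : BigSite.Ab K S}
    (hM : IsCart ((epsK K S).obj M)) :
    ∃ (Q : BigSite.Ab K S) (v : (pushK K f).obj ((pullK K f).obj M) ⟶ Q) (w : unitK K f M ≫ v = 0),
      (ShortComplex.mk (unitK K f M) v w).ShortExact ∧ IsCart ((epsK K S).obj Q) ∧
        Epi ((epsK K S).map v) := by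
  let u := unitK K f M
  have : Mono u := mono_unitK K f hM
  have : Mono ((epsK K S).map u) := inferInstance
  have hN : IsCart ((epsK K S).obj ((pushK K f).obj ((pullK K f).obj M))) :=
    IsCart.pushBig f (hM.pullBig f)
  let Q₀ := cokernel ((epsK K S).map u)
  have hQ₀ : IsCart Q₀ := isCart_cokernel _ hM hN
  let Q : BigSite.Ab K S := ⟨Q₀.obj, Adm.isSheaf hQ₀⟩
  let v : (pushK K f).obj ((pullK K f).obj M) ⟶ Q := ⟨(cokernel.π ((epsK K S).map u)).hom⟩
  have w : u ≫ v = 0 := (epsK K S).map_injective (by
    rw [Functor.map_comp, Functor.map_zero]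
    exact cokernel.condition _)
  refine ⟨Q, v, w, ?_, hQ₀, inferInstanceAs (Epi (cokernel.π ((epsK K S).map u)))⟩
  let Z := ShortComplex.mk u v w
  have hZ : (Z.map (epsK K S)).ShortExact := CohFin.cokerSeq_shortExact' ((epsK K S).map u)
  have h2 := hZ.map_of_exact (shK K S)
  let η := (shIso K S)
  let e : (Z.map (epsK K S)).map (shK K S) ≅ Z :=
    ShortComplex.isoMk (η.app Z.X₁) (η.app Z.X₂) (η.app Z.X₃)
      (η.hom.naturality Z.f).symm (η.hom.naturality Z.g).symm
  exact ShortComplex.shortExact_of_iso e h2

end Groth.DescentBase.BigCart
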