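import Groth.Agent.DescentBase.BigCart.Basic
import Groth.Agent.Flatmor4.QCCover
import Mathlib.AlgebraicGeometry.Sites.Fpqc
import Mathlib.AlgebraicGeometry.Morphisms.FlatMono

/-!
# Sheaves determined by geometric points satisfy descent for fpqc coverings
-/

set_option autoImplicit false
set_option backward.isDefEq.respectTransparency.types false

universe u

open CategoryTheory CategoryTheory.Limits AlgebraicGeometry Opposite

namespace Groth.DescentBase.BigCart

open Groth.EtaleBase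

variable {S : Scheme.{u}}

section extension

variable {G : AbB S} (hG : IsCart G) {Ω Ω' : Type u} [Field Ω] [IsAlgClosed Ω] [Field Ω']
  [IsAlgClosed Ω'] (ξ : Spec (CommRingCat.of Ω) ⟶ S)
  (e : Spec (CommRingCat.of Ω') ⟶ Spec (CommRingCat.of Ω))

/-- Extension of the field of a geometric point. -/
noncomputable abbrev extHom : Over.mk (e ≫ ξ) ⟶ Over.mk ξ := Over.homMk e

include hG in
lemma IsCart.map_extHom_injective : Function.Injective (G.obj.map (extHom ξ e).op) := by
  rw [injective_iff_map_eq_zero]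
  intro x hx
  obtain ⟨U, l, t, rfl⟩ := hG.lift ξ x
  rw [← ConcreteCategory.comp_apply, ← Functor.map_comp, ← op_comp] at hx
  obtain ⟨W, g, w, hw, hz⟩ := (germ_eq_zero_iff (e ≫ ξ)
    ((BigSite.resEt Scheme.etalePrecoverage S).obj G) U (extHom ξ e ≫ l) t).1
    (hG.germ_eq_zero U _ t hx)
  have hv : g.left.base ((show Spec (CommRingCat.of Ω') ⟶ W.left from w.left).base default) =
      (show Spec (CommRingCat.of Ω) ⟶ U.left from l.left).base default :=
    (congrArg (fun k : Spec (CommRingCat.of Ω') ⟶ U.left => k.base default)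
      (congrArg (fun k => k.left) hw)).trans
      (congrArg (show Spec (CommRingCat.of Ω) ⟶ U.left from l.left).base
        (Subsingleton.elim (α := PrimeSpectrum Ω) _ _))
  have : Etale g.left := inferInstance
  obtain ⟨m, hm, -⟩ := Scheme.exists_fac_of_etale_of_isSepClosed g.left
    (show Spec (CommRingCat.of Ω) ⟶ U.left from l.left) _ hv
  let mm : Over.mk ξ ⟶ (EtFppf.a S).obj W := Over.homMk m (by
    have hgw : (g.left : W.left ⟶ U.left) ≫ U.hom = W.hom := Over.w g.hom
    exact (congrArg (m ≫ ·) hgw.symm).trans ((Category.assoc _ _ _).symm.trans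
      ((congrArg (· ≫ U.hom) hm).trans (Over.w l))))
  have e1 : mm ≫ (EtFppf.a S).map g = l := Over.OverMorphism.ext hm
  rw [← e1, op_comp, Functor.map_comp, ConcreteCategory.comp_apply]
  exact (congrArg (G.obj.map mm.op) hz).trans (map_zero _)

include hG in
lemma IsCart.map_extHom_surjective : Function.Surjective (G.obj.map (extHom ξ e).op) := by
  intro x
  obtain ⟨U, l, t, rfl⟩ := hG.lift (e ≫ ξ) x
  let P := pullback U.hom ξ
  let σ' : Spec (CommRingCat.of Ω') ⟶ P :=
    pullback.lift (show Spec (CommRingCat.of Ω') ⟶ U.left from l.left) e (Over.w l)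
  obtain ⟨σ, hσ, hσz⟩ := Scheme.exists_fac_of_etale_of_isSepClosed (pullback.snd U.hom ξ)
    (𝟙 (Spec (CommRingCat.of Ω))) (σ'.base default) (Subsingleton.elim (α := PrimeSpectrum Ω) _ _)
  have : Etale (σ ≫ pullback.snd U.hom ξ) := by rw [hσ]; infer_instance
  have : Etale σ := Etale.of_comp σ (pullback.snd U.hom ξ)
  have : Mono (σ ≫ pullback.snd U.hom ξ) := by rw [hσ]; infer_instance
  have : Mono σ := mono_of_mono σ (pullback.snd U.hom ξ)
  have : IsOpenImmersion σ := IsOpenImmersion.of_flat_of_mono σ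
  let j := IsOpenImmersion.lift σ σ' (by
    rintro _ ⟨a, rfl⟩
    exact ⟨default, hσz.trans (congrArg σ'.base (Subsingleton.elim (α := PrimeSpectrum Ω') _ _))⟩)
  have hj : j ≫ σ = σ' := IsOpenImmersion.lift_fac _ _ _
  have hje : j = e := by
    have h1 := congrArg (· ≫ pullback.snd U.hom ξ) hj
    simp only [Category.assoc, hσ, Category.comp_id] at h1
    exact h1.trans (pullback.lift_snd _ _ _)
  let l₀ : Over.mk ξ ⟶ (EtFppf.a S).obj U := Over.homMk (σ ≫ pullback.fst U.hom ξ) (by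
    rw [Category.assoc]
    exact (congrArg (σ ≫ ·) pullback.condition).trans
      ((Category.assoc _ _ _).symm.trans ((congrArg (· ≫ ξ) hσ).trans (Category.id_comp _))))
  refine ⟨G.obj.map l₀.op t, ?_⟩
  rw [← ConcreteCategory.comp_apply, ← Functor.map_comp, ← op_comp]
  have : extHom ξ e ≫ l₀ = l := by
    apply Over.OverMorphism.ext
    show e ≫ σ ≫ pullback.fst U.hom ξ = _
    exact (congrArg (· ≫ σ ≫ pullback.fst U.hom ξ) hje.symm).trans
      (((Category.assoc _ _ _).symm.trans (congrArg (· ≫ pullback.fst U.hom ξ) hj)).trans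
        (pullback.lift_fst _ _ _))
  rw [this]

end extension

section vanish

variable {G : AbB S} (hG : IsCart G)

include hG in
/-- The vanishing locus of a section is open. -/
lemma IsCart.exists_open_vanish (C : Over S) (s : G.obj.obj (op C)) {Ω : Type u} [Field Ω]
    [IsAlgClosed Ω] (ξ : Spec (CommRingCat.of Ω) ⟶ C.left)
    (h : G.obj.map (ptHom C ξ).op s = 0) :
    ∃ O : Set C.left, IsOpen O ∧ ξ.base default ∈ O ∧
      ∀ {Ω' : Type u} [Field Ω'] [IsAlgClosed Ω'] (ξ' : Spec (CommRingCat.of Ω') ⟶ C.left),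
        ξ'.base default ∈ O → G.obj.map (ptHom C ξ').op s = 0 := by
  obtain ⟨V, g, hg, hx, h0⟩ := hG.sep C ξ s h
  have : Etale g.left := hg
  refine ⟨Set.range g.left.base, g.left.isOpenMap.isOpen_range, hx, fun {Ω'} _ _ ξ' ⟨y, hy⟩ => ?_⟩
  obtain ⟨m, hm, -⟩ := Scheme.exists_fac_of_etale_of_isSepClosed g.left ξ' y hy
  let mm : ptObj C ξ' ⟶ V := Over.homMk m ((congrArg (m ≫ ·) (Over.w g).symm).trans
    ((Category.assoc _ _ _).symm.trans (congrArg (· ≫ C.hom) hm)))
  have e1 : mm ≫ g = ptHom C ξ' := Over.OverMorphism.ext hm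
  rw [← e1, op_comp, Functor.map_comp, ConcreteCategory.comp_apply, h0, map_zero]

end vanish

/-- A point lifts, after a field extension, through a jointly surjective family. -/
lemma exists_ext_lift {X : Scheme.{u}} {ι : Type u} {V : ι → Scheme.{u}} (p : ∀ i, V i ⟶ X)
    (hp : ∀ x : X, ∃ i, x ∈ Set.range (p i).base) {Ω : Type u} [Field Ω]
    (ξ : Spec (CommRingCat.of Ω) ⟶ X) :
    ∃ (Ω' : Type u) (_ : Field Ω') (_ : IsAlgClosed Ω') (i : ι)
      (e : Spec (CommRingCat.of Ω') ⟶ Spec (CommRingCat.of Ω))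
      (ζ : Spec (CommRingCat.of Ω') ⟶ V i), ζ ≫ p i = e ≫ ξ := by
  obtain ⟨i, v, hv⟩ := hp (ξ.base default)
  obtain ⟨z, -, -⟩ := Scheme.Pullback.exists_preimage_pullback (f := ξ) (g := p i) default v hv.symm
  let a := Groth.DescentBase.acPoint (X := pullback ξ (p i)) z
  exact ⟨_, _, inferInstance, i, a ≫ pullback.fst ξ (p i), a ≫ pullback.snd ξ (p i),
    (Category.assoc _ _ _).trans ((congrArg (a ≫ ·) pullback.condition.symm).trans
      (Category.assoc _ _ _).symm)⟩

/-- Openness is detected on a flat quasi-compact covering family. -/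
lemma isOpen_of_qcCover {X : Scheme.{u}} (E : PreZeroHypercover.{u} X) [QuasiCompactCover E]
    (hflat : ∀ i, Flat (E.f i)) (hp : ∀ x : X, ∃ i, x ∈ Set.range (E.f i).base) {X' : Scheme.{u}}
    (q : X' ⟶ X) (O : Set X') (hO : ∀ i, IsOpen ((pullback.fst q (E.f i)).base ⁻¹' O)) :
    IsOpen O := by
  let E' : PreZeroHypercover.{u} X' := E.pullback₁ q
  let π : (∐ E'.X) ⟶ X' := Sigma.desc E'.f
  have hsurj : Surjective π := ⟨fun x => by
    obtain ⟨i, v, hv⟩ := hp (q.base x)
    obtain ⟨z, hz, -⟩ := Scheme.Pullback.exists_preimage_pullback (f := q) (g := E.f i) x v hv.symm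
    refine ⟨(Sigma.ι E'.X i).base z, ?_⟩
    rw [← Scheme.Hom.comp_apply, Sigma.ι_desc]
    exact hz⟩
  have : Flat π := IsZariskiLocalAtSource.sigmaDesc fun i =>
    haveI := hflat i
    (inferInstance : Flat (pullback.fst q (E.f i)))
  have : QuasiCompactCover (PreZeroHypercover.singleton π : PreZeroHypercover.{u} X') :=
    .of_hom (𝒱 := E') { s₀ := fun _ => PUnit.unit, h₀ := fun i => Sigma.ι E'.X i,
                        w₀ := fun i => Sigma.ι_desc _ _ }
  rw [← (Groth.Flatmor4.isQuotientMap_of_qcCover π).isOpen_preimage]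
  rw [(sigmaOpenCover E'.X).isOpenCover_opensRange.isOpen_iff_inter]
  intro i
  have : π.base ⁻¹' O ∩ (((sigmaOpenCover E'.X).f i).opensRange : Set ↥(∐ E'.X)) =
      (Sigma.ι E'.X i).base '' ((pullback.fst q (E.f i)).base ⁻¹' O) := by
    ext y
    constructor
    · rintro ⟨hy, z, rfl⟩
      refine ⟨z, ?_, rfl⟩
      show (E'.f i).base z ∈ O
      rwa [← Sigma.ι_desc E'.f i, Scheme.Hom.comp_apply]
    · rintro ⟨z, hz, rfl⟩
      refine ⟨?_, z, rfl⟩
      show π.base ((Sigma.ι E'.X i).base z) ∈ O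
      rwa [← Scheme.Hom.comp_apply, Sigma.ι_desc]
  rw [this]
  exact (Sigma.ι E'.X i).isOpenEmbedding.isOpenMap _ (hO i)

section descent

variable {G : AbB S} (hG : IsCart G) {C : Over S} (R : Sieve C) (E : PreZeroHypercover.{u} C.left)
  (hER : ∀ i, R (etHom C (E.f i)))
  (x : Presieve.FamilyOfElements (G.obj ⋙ forget AddCommGrpCat.{u + 1}) R.arrows)
  (hx : x.Compatible)

/-- The value of the family on the members of the covering. -/
noncomputable abbrev xi (i : E.I₀) : G.obj.obj (op (Over.mk (E.f i ≫ C.hom))) :=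
  x (etHom C (E.f i)) (hER i)

include hx in
lemma compat_xi (i : E.I₀) {W Z : Over S} (g : W ⟶ C) (hg : R g)
    (a : Z ⟶ Over.mk (E.f i ≫ C.hom)) (b : Z ⟶ W) (h : a ≫ etHom C (E.f i) = b ≫ g) :
    G.obj.map a.op (xi R E hER x i) = G.obj.map b.op (x g hg) :=
  hx a b (hER i) hg h

/-- A local solution of the descent problem. -/
def IsGood {W : Over S} (g : W ⟶ C) (s : G.obj.obj (op W)) : Prop :=
  ∀ ⦃W' : Over S⦄ (h : W' ⟶ W) (hR : R (h ≫ g)), G.obj.map h.op s = x (h ≫ g) hR

variable (hp : ∀ y : C.left, ∃ i, y ∈ Set.range (E.f i).base)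

include hG hER hp in
lemma IsGood.unique {W : Over S} (g : W ⟶ C) {s s' : G.obj.obj (op W)} (hs : IsGood R x g s)
    (hs' : IsGood R x g s') : s = s' := by
  refine sub_eq_zero.1 (hG.eq_zero _ fun w => ?_)
  let ξ := Groth.DescentBase.acPoint w
  obtain ⟨Ω', _, _, i, e, ζ, hζ⟩ := exists_ext_lift (fun i => E.f i) hp (ξ ≫ g.left)
  apply hG.map_extHom_injective _ e
  rw [map_zero]
  let h : Over.mk (e ≫ ξ ≫ W.hom) ⟶ W := Over.homMk (e ≫ ξ) (Category.assoc _ _ _)
  have e1 : extHom (ξ ≫ W.hom) e ≫ ptHom W ξ = h := Over.OverMorphism.ext rfl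
  let a : Over.mk (e ≫ ξ ≫ W.hom) ⟶ Over.mk (E.f i ≫ C.hom) := Over.homMk ζ (by
    show ζ ≫ E.f i ≫ C.hom = e ≫ ξ ≫ W.hom
    rw [reassoc_of% hζ]
    exact congrArg (fun k => e ≫ ξ ≫ k) (Over.w g))
  have hR : R (h ≫ g) := by
    have : h ≫ g = a ≫ etHom C (E.f i) :=
      Over.OverMorphism.ext ((Category.assoc _ _ _).trans hζ.symm)
    rw [this]
    exact R.downward_closed (hER i) a
  rw [← ConcreteCategory.comp_apply, ← Functor.map_comp, ← op_comp, e1, map_sub, hs h hR,
    hs' h hR, sub_self]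

include hG hx hER hp in
/-- Local solutions exist. -/
lemma exists_good (hop : ∀ {X' : Scheme.{u}} (q : X' ⟶ C.left) (O : Set X'),
    (∀ i, IsOpen ((pullback.fst q (E.f i)).base ⁻¹' O)) → IsOpen O) (c : C.left) :
    ∃ (W : Over S) (g : W ⟶ C) (s : G.obj.obj (op W)),
      Etale g.left ∧ c ∈ Set.range g.left.base ∧ IsGood R x g s := by
  let ξ := Groth.DescentBase.acPoint c
  obtain ⟨Ω', _, _, i₀, e, ζ, hζ⟩ := exists_ext_lift (fun i => E.f i) hp ξ
  let a₀ : Over.mk (e ≫ ξ ≫ C.hom) ⟶ Over.mk (E.f i₀ ≫ C.hom) := Over.homMk ζ (by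
    show ζ ≫ E.f i₀ ≫ C.hom = _
    rw [reassoc_of% hζ]
    rfl)
  obtain ⟨v, hv⟩ := hG.map_extHom_surjective (ξ ≫ C.hom) e (G.obj.map a₀.op (xi R E hER x i₀))
  obtain ⟨U, l, t, ht⟩ := hG.lift (ξ ≫ C.hom) v
  let D : Over S := Over.mk (pullback.fst C.hom U.hom ≫ C.hom)
  let p : D ⟶ C := Over.homMk (pullback.fst _ _)
  let q : D ⟶ (EtFppf.a S).obj U := Over.homMk (pullback.snd _ _) pullback.condition.symm
  -- the pieces over the covering
  let Dp : ∀ i, Over S := fun i => Over.mk (pullback.fst p.left (E.f i) ≫ D.hom)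
  let pD : ∀ i, Dp i ⟶ D := fun i => Over.homMk (pullback.fst p.left (E.f i))
  let pV : ∀ i, Dp i ⟶ Over.mk (E.f i ≫ C.hom) := fun i =>
    Over.homMk (pullback.snd p.left (E.f i)) (by
      show pullback.snd p.left (E.f i) ≫ E.f i ≫ C.hom = _
      rw [← pullback.condition_assoc, Over.w p]
      rfl)
  let δ : ∀ i, G.obj.obj (op (Dp i)) := fun i =>
    G.obj.map (pD i ≫ q).op t - G.obj.map (pV i).op (xi R E hER x i)
  -- agreement does not depend on the member of the covering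
  have indep : ∀ i j {Ω₁ : Type u} [Field Ω₁] [IsAlgClosed Ω₁]
      (z : Spec (CommRingCat.of Ω₁) ⟶ (Dp i).left) (z' : Spec (CommRingCat.of Ω₁) ⟶ (Dp j).left),
      z ≫ pullback.fst p.left (E.f i) = z' ≫ pullback.fst p.left (E.f j) →
      G.obj.map (ptHom (Dp i) z).op (δ i) = 0 → G.obj.map (ptHom (Dp j) z').op (δ j) = 0 := by
    intro i j Ω₁ _ _ z z' hzz h0
    let k : ptObj (Dp j) z' ⟶ ptObj (Dp i) z := Over.homMk (𝟙 _) (by
      show 𝟙 _ ≫ z ≫ pullback.fst p.left (E.f i) ≫ D.hom = z' ≫ pullback.fst p.left (E.f j) ≫ D.hom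
      rw [Category.id_comp, reassoc_of% hzz])
    have e1 : k ≫ ptHom (Dp i) z ≫ pD i = ptHom (Dp j) z' ≫ pD j :=
      Over.OverMorphism.ext ((Category.id_comp _).trans hzz)
    have hc : G.obj.map (k ≫ ptHom (Dp i) z ≫ pV i).op (xi R E hER x i) =
        G.obj.map (ptHom (Dp j) z' ≫ pV j).op (xi R E hER x j) := by
      refine compat_xi R E hER x hx i (etHom C (E.f j)) (hER j) _ _ ?_
      apply Over.OverMorphism.ext
      show (𝟙 _ ≫ z ≫ pullback.snd p.left (E.f i)) ≫ E.f i = (z' ≫ pullback.snd p.left (E.f j)) ≫ E.f j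
      rw [Category.id_comp, Category.assoc, Category.assoc, ← pullback.condition, ← pullback.condition,
        reassoc_of% hzz]
    have h1 : G.obj.map k.op (G.obj.map (ptHom (Dp i) z).op (δ i)) = 0 := by
      rw [h0, map_zero]
    simp only [δ, map_sub, ← ConcreteCategory.comp_apply, ← Functor.map_comp, ← op_comp] at h1 ⊢
    rw [← hc]
    simp only [← Category.assoc] at h1 e1 ⊢
    rw [← e1]
    exact h1
  let O : Set D.left := {d | ∀ (i : E.I₀) {Ω₁ : Type u} [Field Ω₁] [IsAlgClosed Ω₁]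
    (z : Spec (CommRingCat.of Ω₁) ⟶ (Dp i).left),
      (pullback.fst p.left (E.f i)).base (z.base default) = d → G.obj.map (ptHom (Dp i) z).op (δ i) = 0}
  -- any pair of points over the same point of `D` has a common geometric point
  have common : ∀ i j {Ω₁ : Type u} [Field Ω₁] [IsAlgClosed Ω₁]
      (z : Spec (CommRingCat.of Ω₁) ⟶ (Dp i).left) (d' : (Dp j).left),
      (pullback.fst p.left (E.f i)).base (z.base default) = (pullback.fst p.left (E.f j)).base d' →
      G.obj.map (ptHom (Dp i) z).op (δ i) = 0 →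
      ∃ (Ω₂ : Type u) (_ : Field Ω₂) (_ : IsAlgClosed Ω₂)
        (z' : Spec (CommRingCat.of Ω₂) ⟶ (Dp j).left),
          z'.base default = d' ∧ G.obj.map (ptHom (Dp j) z').op (δ j) = 0 := by
    intro i j Ω₁ _ _ z d' hd h0
    obtain ⟨y, hy₁, hy₂⟩ := Scheme.Pullback.exists_preimage_pullback
      (f := z ≫ pullback.fst p.left (E.f i)) (g := pullback.fst p.left (E.f j)) default d' hd
    let b := Groth.DescentBase.acPoint y
    let k : ptObj (Dp i) ((b ≫ pullback.fst _ _) ≫ z) ⟶ ptObj (Dp i) z :=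
      Over.homMk (b ≫ pullback.fst _ _) (Category.assoc _ _ _).symm
    have hk : k ≫ ptHom (Dp i) z = ptHom (Dp i) ((b ≫ pullback.fst _ _) ≫ z) :=
      Over.OverMorphism.ext rfl
    refine ⟨_, _, inferInstance, b ≫ pullback.snd _ _, ?_, indep i j ((b ≫ pullback.fst _ _) ≫ z) _ ?_ ?_⟩
    · rw [Scheme.Hom.comp_apply, Groth.DescentBase.acPoint_apply, hy₂]
    · simp only [Category.assoc]
      exact congrArg (b ≫ ·) pullback.condition
    · rw [← hk, op_comp, Functor.map_comp, ConcreteCategory.comp_apply, h0, map_zero]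
  have hO : IsOpen O := by
    refine hop p.left O fun j => ?_
    rw [isOpen_iff_forall_mem_open]
    intro z₀ hz₀
    let ξ₀ := Groth.DescentBase.acPoint (X := (Dp j).left) z₀
    have hξ₀ : ξ₀.base default = z₀ := Groth.DescentBase.acPoint_apply _ _
    obtain ⟨N, hN, hmem, hNv⟩ := hG.exists_open_vanish (Dp j) (δ j) ξ₀ (hz₀ j ξ₀ (by rw [hξ₀]))
    refine ⟨N, fun z₁ hz₁ => ?_, hN, hξ₀ ▸ hmem⟩
    intro i Ω₁ _ _ z hz
    let ξ₁ := Groth.DescentBase.acPoint (X := (Dp j).left) z₁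
    have hξ₁ : ξ₁.base default = z₁ := Groth.DescentBase.acPoint_apply _ _
    obtain ⟨Ω₂, _, _, z', hz', h0⟩ := common j i ξ₁ (z.base default)
      ((congrArg _ hξ₁).trans hz.symm) (hNv ξ₁ (by rw [hξ₁]; exact hz₁))
    obtain ⟨N', -, hmem', hNv'⟩ := hG.exists_open_vanish (Dp i) (δ i) z' h0
    exact hNv' z (hz' ▸ hmem')
  let ξ' : Spec (CommRingCat.of (AlgebraicClosure (C.left.residueField c))) ⟶ D.left :=
    pullback.lift ξ l.left (Over.w l).symm
  have hd₀ : ξ'.base default ∈ O := by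
    let z₀ : Spec (CommRingCat.of Ω') ⟶ (Dp i₀).left := pullback.lift (e ≫ ξ') ζ (by
      show (e ≫ ξ') ≫ pullback.fst C.hom U.hom = ζ ≫ E.f i₀
      rw [hζ, Category.assoc, pullback.lift_fst])
    have h0 : G.obj.map (ptHom (Dp i₀) z₀).op (δ i₀) = 0 := by
      let k : ptObj (Dp i₀) z₀ ⟶ Over.mk (e ≫ ξ ≫ C.hom) := Over.homMk (𝟙 _) (by
        show 𝟙 _ ≫ e ≫ ξ ≫ C.hom = z₀ ≫ pullback.fst p.left (E.f i₀) ≫ pullback.fst C.hom U.hom ≫ C.hom
        rw [Category.id_comp, pullback.lift_fst_assoc, Category.assoc]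
        exact congrArg (e ≫ ·) (pullback.lift_fst_assoc ξ l.left (Over.w l).symm C.hom).symm)
      have e1 : ptHom (Dp i₀) z₀ ≫ pD i₀ ≫ q = k ≫ extHom (ξ ≫ C.hom) e ≫ l := by
        apply Over.OverMorphism.ext
        show z₀ ≫ pullback.fst p.left (E.f i₀) ≫ pullback.snd C.hom U.hom = 𝟙 _ ≫ e ≫ l.left
        rw [pullback.lift_fst_assoc, Category.assoc, pullback.lift_snd, Category.id_comp]
        rfl
      have e2 : ptHom (Dp i₀) z₀ ≫ pV i₀ = k ≫ a₀ :=
        Over.OverMorphism.ext ((pullback.lift_snd _ _ _).trans (Category.id_comp _).symm)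
      simp only [δ, map_sub, ← ConcreteCategory.comp_apply, ← Functor.map_comp, ← op_comp]
      rw [e1, e2]
      simp only [op_comp, Functor.map_comp, ConcreteCategory.comp_apply]
      rw [ht, hv, sub_self]
    intro i Ω₁ _ _ z hz
    obtain ⟨Ω₂, _, _, z', hz', h0'⟩ := common i₀ i z₀ (z.base default) (by
      rw [hz, ← Scheme.Hom.comp_apply, pullback.lift_fst, Scheme.Hom.comp_apply]
      exact congrArg ξ'.base (Subsingleton.elim (α := PrimeSpectrum _) _ _)) h0
    obtain ⟨N', -, hmem', hNv'⟩ := hG.exists_open_vanish (Dp i) (δ i) z' h0'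
    exact hNv' z (hz' ▸ hmem')
  let O' : D.left.Opens := ⟨O, hO⟩
  let DO : Over S := Over.mk (O'.ι ≫ D.hom)
  let o : DO ⟶ D := Over.homMk O'.ι
  refine ⟨DO, o ≫ p, G.obj.map (o ≫ q).op t, ?_, ⟨⟨ξ'.base default, hd₀⟩, ?_⟩, ?_⟩
  · show Etale (O'.ι ≫ pullback.fst C.hom U.hom)
    infer_instance
  · show (O'.ι ≫ pullback.fst C.hom U.hom).base _ = c
    rw [Scheme.Hom.comp_apply]
    show (pullback.fst C.hom U.hom).base (ξ'.base default) = c
    rw [← Scheme.Hom.comp_apply, pullback.lift_fst]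
    exact Groth.DescentBase.acPoint_apply c _
  intro W' h hR
  refine sub_eq_zero.1 (hG.eq_zero _ fun w => ?_)
  let η := Groth.DescentBase.acPoint w
  obtain ⟨Ω₁, _, _, i, e₁, ζ₁, hζ₁⟩ := exists_ext_lift (fun i => E.f i) hp (η ≫ (h ≫ o ≫ p).left)
  apply hG.map_extHom_injective _ e₁
  rw [map_zero]
  let z : Spec (CommRingCat.of Ω₁) ⟶ (Dp i).left :=
    pullback.lift (e₁ ≫ η ≫ (h ≫ o).left) ζ₁ (by
      rw [hζ₁]
      show (e₁ ≫ η ≫ h.left ≫ O'.ι) ≫ p.left = e₁ ≫ η ≫ h.left ≫ O'.ι ≫ p.left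
      simp only [Category.assoc])
  have hz0 : G.obj.map (ptHom (Dp i) z).op (δ i) = 0 := by
    refine (show _ ∈ O from (show O'.ι.base ((e₁ ≫ η ≫ h.left).base default) ∈ O from
      ((e₁ ≫ η ≫ h.left).base default).2)) i z ?_
    rw [← Scheme.Hom.comp_apply, pullback.lift_fst, ← Scheme.Hom.comp_apply]
    exact congrArg (fun k : Spec (CommRingCat.of Ω₁) ⟶ D.left => k.base default)
      (show e₁ ≫ η ≫ h.left ≫ O'.ι = (e₁ ≫ η ≫ h.left) ≫ O'.ι by simp only [Category.assoc])
  let k : ptObj (Dp i) z ⟶ Over.mk (e₁ ≫ η ≫ W'.hom) := Over.homMk (𝟙 _) (by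
    show 𝟙 _ ≫ e₁ ≫ η ≫ W'.hom = z ≫ pullback.fst p.left (E.f i) ≫ D.hom
    rw [pullback.lift_fst_assoc, Category.id_comp]
    simp only [Category.assoc]
    exact congrArg (fun m => e₁ ≫ η ≫ m) (Over.w (h ≫ o)).symm)
  let k' : Over.mk (e₁ ≫ η ≫ W'.hom) ⟶ ptObj (Dp i) z := Over.homMk (𝟙 _) (by
    rw [← Over.w k]
    exact (Category.id_comp _).trans (Category.id_comp _))
  have e1 : ∀ {Z : Over S} (m : ptObj W' η ⟶ Z) (n : ptObj (Dp i) z ⟶ Z),
      e₁ ≫ (show Spec _ ⟶ Z.left from m.left) = n.left →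
      extHom (η ≫ W'.hom) e₁ ≫ m = k' ≫ n := fun m n hmn =>
    Over.OverMorphism.ext (hmn.trans (Category.id_comp _).symm)
  have h1 := congrArg (G.obj.map k'.op) hz0
  simp only [δ, map_sub, map_zero, ← ConcreteCategory.comp_apply, ← Functor.map_comp, ← op_comp]
    at h1 ⊢
  rw [e1 (ptHom W' η ≫ h ≫ o ≫ q) (ptHom (Dp i) z ≫ pD i ≫ q) (by
    show e₁ ≫ η ≫ h.left ≫ O'.ι ≫ q.left = z ≫ pullback.fst p.left (E.f i) ≫ q.left
    rw [pullback.lift_fst_assoc]
    simp only [Category.assoc]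
    rfl)]
  have hc := compat_xi R E hER x hx i (h ≫ o ≫ p) hR (k' ≫ ptHom (Dp i) z ≫ pV i)
    (extHom (η ≫ W'.hom) e₁ ≫ ptHom W' η) (by
      apply Over.OverMorphism.ext
      show (𝟙 _ ≫ z ≫ pullback.snd p.left (E.f i)) ≫ E.f i = (e₁ ≫ η) ≫ (h ≫ o ≫ p).left
      rw [Category.id_comp, pullback.lift_snd, hζ₁]
      simp only [η, Category.assoc])
  exact (congrArg₂ (· - ·) rfl hc.symm).trans h1

end descent

/-- A sheaf determined by geometric points glues along a sieve containing a jointly surjective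
family on which openness is detected after every base change. -/
theorem IsCart.isSheafFor_of_openDetect {G : AbB S} (hG : IsCart G) {C : Over S} (R : Sieve C)
    (E : PreZeroHypercover.{u} C.left) (hER : ∀ i, R (etHom C (E.f i)))
    (hp : ∀ y : C.left, ∃ i, y ∈ Set.range (E.f i).base)
    (hop : ∀ {X' : Scheme.{u}} (q : X' ⟶ C.left) (O : Set X'),
      (∀ i, IsOpen ((pullback.fst q (E.f i)).base ⁻¹' O)) → IsOpen O) :
    Presieve.IsSheafFor (G.obj ⋙ forget AddCommGrpCat.{u + 1}) R.arrows := by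
  intro x hx
  have hgood := exists_good hG R E hER x hx hp hop
  let R' : Sieve C :=
    { arrows := fun W g => ∃ s, IsGood R x g s
      downward_closed := fun {W W'} g ⟨s, hs⟩ m => ⟨G.obj.map m.op s, fun W'' h hR => by
        have hR' : R ((h ≫ m) ≫ g) := by rw [Category.assoc]; exact hR
        rw [← ConcreteCategory.comp_apply, ← Functor.map_comp, ← op_comp]
        refine (hs (h ≫ m) hR').trans ?_
        congr 1⟩ }
  have hR' : R' ∈ J S C := (mem_J_iff C R').2 fun c => by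
    obtain ⟨W, g, s, hg, hc, hs⟩ := hgood c
    exact ⟨W, g, ⟨s, hs⟩, hg, hc⟩
  let y : Presieve.FamilyOfElements (G.obj ⋙ forget AddCommGrpCat.{u + 1}) R'.arrows :=
    fun W g hg => hg.choose
  have hy : y.Compatible := fun W₁ W₂ Z m₁ m₂ g₁ g₂ h₁ h₂ e => by
    refine IsGood.unique hG R E hER x hp (m₁ ≫ g₁) (fun W'' h hR => ?_) (fun W'' h hR => ?_)
    · show G.obj.map h.op (G.obj.map m₁.op h₁.choose) = _
      rw [← ConcreteCategory.comp_apply, ← Functor.map_comp, ← op_comp]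
      refine (h₁.choose_spec (h ≫ m₁) (by rw [Category.assoc]; exact hR)).trans ?_
      congr 1
    · show G.obj.map h.op (G.obj.map m₂.op h₂.choose) = _
      rw [← ConcreteCategory.comp_apply, ← Functor.map_comp, ← op_comp]
      refine (h₂.choose_spec (h ≫ m₂) (by rw [Category.assoc, ← e]; exact hR)).trans ?_
      congr 1
      rw [Category.assoc, e]
  obtain ⟨s, hs, -⟩ := ((isSheaf_iff_isSheaf_of_type _ _).1
    ((sheafCompose (J S) (forget AddCommGrpCat.{u + 1})).obj G).2) R' hR' y hy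
  have hsgood : IsGood R x (𝟙 C) s := fun W h hR => by
    refine eq_of_cover G (R'.pullback h) ((J S).pullback_stable h hR') fun V m hm => ?_
    have h1 := hs (m ≫ h) hm
    rw [← ConcreteCategory.comp_apply, ← Functor.map_comp, ← op_comp]
    refine h1.trans ?_
    have h2 := hm.choose_spec (𝟙 V) (by
      rw [Category.id_comp]
      have := R.downward_closed hR m
      rwa [Category.comp_id] at this)
    rw [op_id, CategoryTheory.Functor.map_id] at h2
    refine h2.trans ?_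
    refine Eq.trans ?_ ((hx m (𝟙 V) hR (by
      rw [Category.comp_id]
      have := R.downward_closed hR m
      rwa [Category.comp_id] at this) (Category.id_comp _).symm).symm.trans rfl)
    refine Eq.trans ?_ (ConcreteCategory.congr_hom ((G.obj ⋙ forget _).map_id (op V)) _).symm
    congr 1
  refine ⟨s, fun W g hg => ?_, fun s' hs' => ?_⟩
  · have := hsgood g (by rw [Category.comp_id]; exact hg)
    refine this.trans ?_
    congr 1
  · refine IsGood.unique hG R E hER x hp (𝟙 C) (fun W h hR => ?_) hsgood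
    refine (hs' h (by rwa [Category.comp_id] at hR)).trans ?_
    congr 1


/-- Sheaves determined by geometric points are sheaves for the fpqc topology. -/
theorem IsCart.isSheaf_fpqc {G : AbB S} (hG : IsCart G) :
    Presheaf.IsSheaf (QuotSh.J Scheme.fpqcPrecoverage S) G.obj := by
  rw [Presheaf.isSheaf_iff_isSheaf_forget _ _ (forget AddCommGrpCat.{u + 1}),
    isSheaf_iff_isSheaf_of_type]
  intro C R hR
  rw [GrothendieckTopology.mem_over_iff,
    Precoverage.mem_toGrothendieck_iff_of_isStableUnderComposition] at hR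
  obtain ⟨R₀, hR₀, hle⟩ := hR
  rw [Precoverage.mem_iff_exists_zeroHypercover] at hR₀
  obtain ⟨𝒰, rfl⟩ := hR₀
  let E := QuasiCompactCover.ulift 𝒰.toPreZeroHypercover
  have hflat : ∀ i, Flat (E.f i) := fun i => by
    obtain ⟨j, hj⟩ : ∃ j, HEq (E.f i) (𝒰.f j) := ⟨_, HEq.rfl⟩
    exact Scheme.Cover.map_prop (P := @Flat)
      ({ toPreZeroHypercover := 𝒰.toPreZeroHypercover, mem₀ := 𝒰.mem₀.2 } :
        Scheme.Cover (Scheme.precoverage @Flat) C.left) _
  have hER : ∀ i, R (etHom C (E.f i)) := fun i =>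
    (Sieve.overEquiv_iff R (E.f i)).1 (hle _ _ (Presieve.ofArrows.mk _))
  have hp : ∀ y : C.left, ∃ i, y ∈ Set.range (E.f i).base := fun y => by
    obtain ⟨V, hV, hy, -⟩ := exists_isAffineOpen_mem_and_subset (x := y) (U := ⊤) trivial
    obtain ⟨s, -, W, -, heq⟩ := hV.isCompactOpenCovered E
    obtain ⟨i, hi⟩ := Set.mem_iUnion.1 (heq.ge hy)
    obtain ⟨_, hyi⟩ := Set.mem_iUnion.1 hi
    exact ⟨i, Set.image_subset_range _ _ hyi⟩
  exact hG.isSheafFor_of_openDetect R E hER hp (isOpen_of_qcCover E hflat hp)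

end Groth.DescentBase.BigCart
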