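import Groth.Agent.DescentBase.BigCart.PiPull
import Groth.Agent.DescentBase.BigCart.Fpqc
import Groth.Agent.SiteCohomology.BigPiPull
import Groth.Prelude.Def_EtFppf

/-!
# Sections of inverse images on the big étale and fppf sites
-/

set_option autoImplicit false
set_option backward.isDefEq.respectTransparency.types false

universe u

open CategoryTheory CategoryTheory.Limits AlgebraicGeometry Opposite

namespace Groth.DescentBase.BigCart

variable {S : Scheme.{u}}

/-- Sections of `π⁻¹ F` over `T` are the global sections of its inverse image to `T`. -/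
theorem nonempty_piEtPull_sections_iso (F : EtCoh.Ab S) {T : Scheme.{u}} (f : T ⟶ S) :
    Nonempty (((BigSite.piEtPull Scheme.etalePrecoverage S).obj F).obj.obj (op (Over.mk f)) ≅
      ((EtCoh.pull f).obj F).obj.obj (op (EtCoh.top T))) := by
  obtain ⟨e⟩ := Groth.SiteCohomology.nonempty_piEtPull_resEtAlong_iso f
  let j : (Over.map f).obj ((EtFppf.a T).obj (EtCoh.top T)) ≅ Over.mk f :=
    Over.isoMk (Iso.refl _) (by
      show 𝟙 _ ≫ f = 𝟙 _ ≫ f
      rfl)
  exact ⟨((BigSite.piEtPull Scheme.etalePrecoverage S).obj F).obj.mapIso j.op ≪≫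
    ((sheafToPresheaf _ _).mapIso (e.app F)).app (op (EtCoh.top T))⟩

variable (F : EtCoh.Ab S)

lemma isSheaf_mono {J₁ J₂ : GrothendieckTopology (Over S)} (h : J₁ ≤ J₂)
    (P : (Over S)ᵒᵖ ⥤ AddCommGrpCat.{u + 1}) (hP : Presheaf.IsSheaf J₂ P) : Presheaf.IsSheaf J₁ P := by
  rw [Presheaf.isSheaf_iff_isSheaf_forget _ _ (forget AddCommGrpCat.{u + 1}),
    isSheaf_iff_isSheaf_of_type] at hP ⊢
  exact Presieve.isSheaf_of_le _ h hP

lemma isSheaf_fppf_piEtPull :
    Presheaf.IsSheaf (EtFppf.J S) ((BigSite.piEtPull Scheme.etalePrecoverage S).obj F).obj :=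
  isSheaf_mono (BigSite.J_mono Scheme.fppfPrecoverage_le_fpqcPrecoverage S) _
    (isCart_piEtPull F).isSheaf_fpqc

/-- `π⁻¹ F` as a sheaf on the big fppf site. -/
noncomputable def piFppf : EtFppf.AbF S :=
  ⟨((BigSite.piEtPull Scheme.etalePrecoverage S).obj F).obj, isSheaf_fppf_piEtPull F⟩

variable [EtFppf.ACont S]

/-- An fppf sheaf as a big étale sheaf. -/
noncomputable def toEt (H : EtFppf.AbF S) : AbB S :=
  ⟨H.obj, isSheaf_mono (BigSite.J_mono BigSite.etalePrecoverage_le_fppfPrecoverage S) _ H.2⟩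

/-- The unit into `π⁻¹ F` as an fppf sheaf. -/
noncomputable def toPiFppf : F ⟶ (EtFppf.aPush S).obj (piFppf F) :=
  ⟨((BigSite.piEtAdj Scheme.etalePrecoverage S).unit.app F).hom⟩

/-- `a⁻¹ F` is `π⁻¹ F`. -/
noncomputable def aPullIso : (EtFppf.aPull S).obj F ≅ piFppf F := by
  let H := (EtFppf.aPull S).obj F
  let β₀ : F ⟶ (BigSite.resEt Scheme.etalePrecoverage S).obj (toEt H) :=
    ⟨((EtFppf.aAdj S).unit.app F).hom⟩
  let γ₀ := ((BigSite.piEtAdj Scheme.etalePrecoverage S).homEquiv F (toEt H)).symm β₀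
  let γ : piFppf F ⟶ H := ⟨γ₀.hom⟩
  let α := ((EtFppf.aAdj S).homEquiv F (piFppf F)).symm (toPiFppf F)
  have hα : (EtFppf.aAdj S).unit.app F ≫ (EtFppf.aPush S).map α = toPiFppf F :=
    ((EtFppf.aAdj S).homEquiv_unit _ _ α).symm.trans (Equiv.apply_symm_apply _ _)
  have hγ : (BigSite.piEtAdj Scheme.etalePrecoverage S).unit.app F ≫
      (BigSite.resEt Scheme.etalePrecoverage S).map γ₀ = β₀ :=
    ((BigSite.piEtAdj Scheme.etalePrecoverage S).homEquiv_unit _ _ γ₀).symm.trans
      (Equiv.apply_symm_apply _ _)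
  refine ⟨α, γ, ?_, ?_⟩
  · apply ((EtFppf.aAdj S).homEquiv F H).injective
    rw [Adjunction.homEquiv_unit, Adjunction.homEquiv_unit, Functor.map_comp, ← Category.assoc, hα,
      CategoryTheory.Functor.map_id]
    refine Eq.trans ?_ (Category.comp_id _).symm
    apply Sheaf.hom_ext
    exact congrArg (fun k => k.hom) hγ
  · let αγ : (BigSite.piEtPull Scheme.etalePrecoverage S).obj F ⟶
        (BigSite.piEtPull Scheme.etalePrecoverage S).obj F := ⟨(γ ≫ α).hom⟩
    suffices αγ = 𝟙 _ from Sheaf.hom_ext (congrArg (fun k => k.hom) this :)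
    apply ((BigSite.piEtAdj Scheme.etalePrecoverage S).homEquiv F _).injective
    rw [Adjunction.homEquiv_unit, Adjunction.homEquiv_unit, CategoryTheory.Functor.map_id]
    refine Eq.trans ?_ (Category.comp_id _).symm
    apply Sheaf.hom_ext
    apply NatTrans.ext
    funext U
    show ((BigSite.piEtAdj Scheme.etalePrecoverage S).unit.app F).hom.app U ≫
      γ₀.hom.app _ ≫ α.hom.app _ = _
    rw [← Category.assoc]
    refine (congrArg (· ≫ α.hom.app _) (congrArg (fun k => k.hom.app U) hγ)).trans ?_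
    exact congrArg (fun k => k.hom.app U) hα

/-- Sections of `a⁻¹ F` over `T` are the global sections of its inverse image to `T`. -/
theorem nonempty_aPull_sections_iso {T : Scheme.{u}} (f : T ⟶ S) :
    Nonempty (((EtFppf.aPull S).obj F).obj.obj (op (Over.mk f)) ≅
      ((EtCoh.pull f).obj F).obj.obj (op (EtCoh.top T))) := by
  obtain ⟨e⟩ := nonempty_piEtPull_sections_iso F f
  exact ⟨((sheafToPresheaf _ _).mapIso (aPullIso F)).app (op (Over.mk f)) ≪≫ e⟩

/-- The unit `F ⟶ a_* a⁻¹ F` is an isomorphism. -/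
theorem isIso_aAdj_unit : IsIso ((EtFppf.aAdj S).unit.app F) := by
  have h := isIso_unit F
  have : IsIso (toPiFppf F) := by
    suffices IsIso ((sheafToPresheaf _ _).map (toPiFppf F)) from
      isIso_of_reflects_iso (toPiFppf F) (sheafToPresheaf _ AddCommGrpCat.{u + 1})
    exact inferInstanceAs (IsIso ((sheafToPresheaf _ _).map
      ((BigSite.piEtAdj Scheme.etalePrecoverage S).unit.app F)))
  have e : (EtFppf.aAdj S).unit.app F = toPiFppf F ≫ (EtFppf.aPush S).map (aPullIso F).inv := by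
    rw [← cancel_mono ((EtFppf.aPush S).map (aPullIso F).hom), Category.assoc, ← Functor.map_comp,
      Iso.inv_hom_id, CategoryTheory.Functor.map_id]
    refine Eq.trans ?_ (Category.comp_id _).symm
    exact ((EtFppf.aAdj S).homEquiv_unit _ _ (aPullIso F).hom).symm.trans
      (Equiv.apply_symm_apply _ _)
  rw [e]
  infer_instance

end Groth.DescentBase.BigCart
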