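import Groth.Agent.DescentBase.BigCart.Basic
import Groth.Agent.SiteCohomology.FullyFaithfulShriek
import Mathlib.CategoryTheory.Sites.Point.Skyscraper
import Mathlib.CategoryTheory.Elements
import Mathlib.GroupTheory.QuotientGroup.Defs

/-!
# Inverse images from the small étale site are determined by geometric points

`π⁻¹ F` satisfies `IsCart`, and conversely such sheaves are in the essential image of `π⁻¹`.
-/

set_option autoImplicit false
set_option backward.isDefEq.respectTransparency.types false

universe u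

open CategoryTheory CategoryTheory.Limits AlgebraicGeometry Opposite

namespace Groth.DescentBase.BigCart

open Groth.EtaleBase

variable {S : Scheme.{u}}

local notation "π⁻¹" => BigSite.piEtPull Scheme.etalePrecoverage S
local notation "res" => BigSite.resEt Scheme.etalePrecoverage S
local notation "adj" => BigSite.piEtAdj Scheme.etalePrecoverage S

lemma isIso_unit (F : EtCoh.Ab S) : IsIso ((adj).unit.app F) := by
  haveI : (EtFppf.a S).Full := inferInstanceAs (Scheme.Etale.forget S).Full
  haveI : (EtFppf.a S).Faithful := inferInstanceAs (Scheme.Etale.forget S).Faithful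
  exact Groth.SiteCohomology.isIso_sheafAdjunctionContinuous_unit_app _ _ _ _ F

section skyscraper

variable {Ω : Type u} [Field Ω] [IsAlgClosed Ω] (ξ : Spec (CommRingCat.of Ω) ⟶ S)

/-- The point of the big étale site given by a geometric point. -/
noncomputable def bigPoint : GrothendieckTopology.Point.{u} (J S) where
  fiber := coyoneda.obj (op (Over.mk ξ))
  isCofiltered := by
    have : HasInitial (coyoneda.obj (op (Over.mk ξ))).Elements :=
      (Functor.Elements.isInitialOfCorepresentableBy
        (Functor.CorepresentableBy.coyoneda (op (Over.mk ξ)))).hasInitial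
    infer_instance
  initiallySmall := by
    have : HasInitial (coyoneda.obj (op (Over.mk ξ))).Elements :=
      (Functor.Elements.isInitialOfCorepresentableBy
        (Functor.CorepresentableBy.coyoneda (op (Over.mk ξ)))).hasInitial
    infer_instance
  jointly_surjective {X} R hR x := by
    obtain ⟨V, g, hg, het, v, hv⟩ := (mem_J_iff X R).1 hR
      ((show Spec (CommRingCat.of Ω) ⟶ X.left from x.left).base default)
    obtain ⟨m, hm, -⟩ := Scheme.exists_fac_of_etale_of_isSepClosed g.left
      (show Spec (CommRingCat.of Ω) ⟶ X.left from x.left) v hv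
    refine ⟨V, g, hg, Over.homMk (U := Over.mk ξ) m ?_, Over.OverMorphism.ext hm⟩
    rw [← Over.w g]
    exact (Category.assoc _ _ _).symm.trans ((congrArg (· ≫ X.hom) hm).trans (Over.w x))

variable (F : EtCoh.Ab S)

/-- The skyscraper sheaf of the stalk. -/
noncomputable def sky : AbB S :=
  ⟨(bigPoint ξ).skyscraperPresheaf ((EtCoh.stalk ξ).obj F),
    (bigPoint ξ).isSheaf_skyscraperPresheaf _⟩

lemma sky_map_π {C D : Over S} (g : D ⟶ C) (x : (bigPoint ξ).fiber.obj D) :
    (sky ξ F).obj.map g.op ≫
        Pi.π (fun _ : (bigPoint ξ).fiber.obj D => (EtCoh.stalk ξ).obj F) x =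
      Pi.π (fun _ : (bigPoint ξ).fiber.obj C => (EtCoh.stalk ξ).obj F)
        ((bigPoint ξ).fiber.map g x) := by
  refine (Pi.map'_comp_π _ _ _).trans ?_
  exact Category.comp_id _

/-- Germs, as a map to the skyscraper sheaf. -/
noncomputable def toSky : F ⟶ (res).obj (sky ξ F) :=
  ⟨{ app := fun U => Pi.lift (f := fun _ : (bigPoint ξ).fiber.obj ((EtFppf.a S).obj U.unop) =>
        (EtCoh.stalk ξ).obj F) fun l => germ ξ F U.unop l
     naturality := fun U W g => by
       refine Pi.hom_ext _ _ fun l => ?_
       refine (Category.assoc _ _ _).trans ((congrArg (_ ≫ ·) (Pi.lift_π _ _)).trans ?_)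
       refine ((Scheme.pointSmallEtale ξ).toPresheafFiber_w g.unop l F.obj).trans ?_
       refine Eq.trans ?_ (Category.assoc _ _ _).symm
       refine Eq.trans ?_ (congrArg (_ ≫ ·) (sky_map_π ξ F ((EtFppf.a S).map g.unop) l).symm)
       exact (Pi.lift_π (f := fun _ : (bigPoint ξ).fiber.obj ((EtFppf.a S).obj U.unop) =>
          (EtCoh.stalk ξ).obj F) (fun l => germ ξ F U.unop l) _).symm }⟩

/-- A section with zero value at a geometric point has zero germ there. -/
lemma germ_eq_zero_of_map (U : S.Etale) (l : Over.mk ξ ⟶ (EtFppf.a S).obj U)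
    (t : F.obj.obj (op U))
    (h : ((π⁻¹).obj F).obj.map l.op (((adj).unit.app F).hom.app (op U) t) = 0) :
    germ ξ F U l t = 0 := by
  let ψ := ((adj).homEquiv F (sky ξ F)).symm (toSky ξ F)
  have h1 : (toSky ξ F).hom.app (op U) t =
      ψ.hom.app (op ((EtFppf.a S).obj U)) (((adj).unit.app F).hom.app (op U) t) := by
    conv_lhs => rw [← Equiv.apply_symm_apply ((adj).homEquiv F (sky ξ F)) (toSky ξ F)]
    rw [Adjunction.homEquiv_unit]
    rfl
  have h2 : (sky ξ F).obj.map l.op ((toSky ξ F).hom.app (op U) t) = 0 := by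
    rw [h1, ← NatTrans.naturality_apply, h, map_zero]
  have h3 : (sky ξ F).obj.map l.op ≫ Pi.π _ (𝟙 (Over.mk ξ) : (bigPoint ξ).fiber.obj (Over.mk ξ)) =
      Pi.π (fun _ : (bigPoint ξ).fiber.obj ((EtFppf.a S).obj U) => (EtCoh.stalk ξ).obj F) l :=
    (sky_map_π ξ F l _).trans (congrArg _ (Category.id_comp l))
  let π₁ := Pi.π (fun _ : (bigPoint ξ).fiber.obj (Over.mk ξ) => (EtCoh.stalk ξ).obj F)
    (𝟙 (Over.mk ξ))
  have h4 : π₁ ((sky ξ F).obj.map l.op ((toSky ξ F).hom.app (op U) t)) = 0 :=
    (congrArg π₁ h2).trans (map_zero _)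
  refine Eq.trans ?_ h4
  refine Eq.trans ?_ (ConcreteCategory.congr_hom h3 ((toSky ξ F).hom.app (op U) t)).symm
  exact (ConcreteCategory.congr_hom (Pi.lift_π (fun l => germ ξ F U l) l) t).symm

end skyscraper

section generation

variable (F : EtCoh.Ab S)

/-- A fibre product in the small étale site. -/
noncomputable def prodObj (U W : S.Etale) : S.Etale :=
  Scheme.Etale.mk (pullback.fst U.hom W.hom ≫ U.hom)

/-- The sections of `π⁻¹ F` coming from the small étale site. -/
noncomputable def fromSmall (C : Over S) : AddSubgroup (((π⁻¹).obj F).obj.obj (op C)) where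
  carrier := {s | ∃ (U : S.Etale) (v : C ⟶ (EtFppf.a S).obj U) (t : F.obj.obj (op U)),
    ((π⁻¹).obj F).obj.map v.op (((adj).unit.app F).hom.app (op U) t) = s}
  zero_mem' := ⟨EtCoh.top S, Over.homMk C.hom (Category.comp_id _), 0, by rw [map_zero]; exact map_zero _⟩
  neg_mem' := by
    rintro _ ⟨U, v, t, rfl⟩
    exact ⟨U, v, -t, by rw [map_neg]; exact map_neg _ _⟩
  add_mem' := by
    rintro _ _ ⟨U, v, t, rfl⟩ ⟨W, w, r, rfl⟩
    let p : prodObj U W ⟶ U := MorphismProperty.Over.homMk (pullback.fst U.hom W.hom) rfl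
    let q : prodObj U W ⟶ W := MorphismProperty.Over.homMk (pullback.snd U.hom W.hom)
      pullback.condition.symm
    let x : C ⟶ (EtFppf.a S).obj (prodObj U W) :=
      Over.homMk (pullback.lift v.left w.left ((Over.w v).trans (Over.w w).symm))
        ((congrArg (fun k => k) (pullback.lift_fst_assoc _ _ _ _)).trans (Over.w v))
    have e1 : x ≫ (EtFppf.a S).map p = v := Over.OverMorphism.ext (pullback.lift_fst _ _ _)
    have e2 : x ≫ (EtFppf.a S).map q = w := Over.OverMorphism.ext (pullback.lift_snd _ _ _)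
    refine ⟨prodObj U W, x, F.obj.map p.op t + F.obj.map q.op r, ?_⟩
    have key : ∀ {U' : S.Etale} (k : prodObj U W ⟶ U') (t : F.obj.obj (op U')),
        ((π⁻¹).obj F).obj.map x.op (((adj).unit.app F).hom.app _ (F.obj.map k.op t)) =
          ((π⁻¹).obj F).obj.map (x ≫ (EtFppf.a S).map k).op
            (((adj).unit.app F).hom.app (op U') t) := fun k t => by
      rw [op_comp, Functor.map_comp, ConcreteCategory.comp_apply]
      exact congrArg _ (NatTrans.naturality_apply ((adj).unit.app F).hom k.op t)
    refine ((congrArg _ (map_add (((adj).unit.app F).hom.app _).hom _ _)).trans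
      (map_add (((π⁻¹).obj F).obj.map x.op).hom _ _)).trans (congrArg₂ (· + ·) ?_ ?_)
    · exact (key p t).trans (by rw [e1])
    · exact (key q r).trans (by rw [e2])

lemma fromSmall_le {C D : Over S} (g : D ⟶ C) :
    fromSmall F C ≤ (fromSmall F D).comap (((π⁻¹).obj F).obj.map g.op).hom := by
  rintro _ ⟨U, v, t, rfl⟩
  refine ⟨U, g ≫ v, t, ?_⟩
  rw [op_comp, Functor.map_comp]
  rfl

/-- The quotient presheaf by the sections coming from the small site. -/
noncomputable def quotPre : (Over S)ᵒᵖ ⥤ AddCommGrpCat.{u + 1} where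
  obj C := AddCommGrpCat.of (((π⁻¹).obj F).obj.obj C ⧸ fromSmall F C.unop)
  map {C D} g := AddCommGrpCat.ofHom (QuotientAddGroup.map _ _ (((π⁻¹).obj F).obj.map g).hom
    (fromSmall_le F g.unop))
  map_id C := by
    ext x
    exact congrArg _ (ConcreteCategory.congr_hom (((π⁻¹).obj F).obj.map_id C) x)
  map_comp {C D E} g h := by
    ext x
    exact congrArg _ (ConcreteCategory.congr_hom (((π⁻¹).obj F).obj.map_comp g h) x)

/-- The projection to the quotient presheaf. -/
noncomputable def quotMk : ((π⁻¹).obj F).obj ⟶ quotPre F where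
  app C := AddCommGrpCat.ofHom (QuotientAddGroup.mk' _)
  naturality _ _ _ := rfl

lemma quotMk_eq_zero_iff (C : Over S) (s : ((π⁻¹).obj F).obj.obj (op C)) :
    (quotMk F).app (op C) s = 0 ↔ s ∈ fromSmall F C :=
  QuotientAddGroup.eq_zero_iff s

/-- Sections of `π⁻¹ F` come locally from the small étale site. -/
theorem locally_fromSmall (C : Over S) (s : ((π⁻¹).obj F).obj.obj (op C)) (x : C.left) :
    ∃ (V : Over S) (g : V ⟶ C), Etale g.left ∧ x ∈ Set.range g.left.base ∧
      ((π⁻¹).obj F).obj.map g.op s ∈ fromSmall F V := by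
  let Q := (presheafToSheaf (J S) AddCommGrpCat.{u + 1}).obj (quotPre F)
  let q : (π⁻¹).obj F ⟶ Q := ⟨quotMk F ≫ toSheafify (J S) (quotPre F)⟩
  have hq : q = 0 := by
    apply ((adj).homEquiv F Q).injective
    rw [Adjunction.homEquiv_unit, Adjunction.homEquiv_unit, Functor.map_zero, comp_zero]
    ext U t
    show (toSheafify (J S) (quotPre F)).app (op ((EtFppf.a S).obj U.unop))
      ((quotMk F).app _ (((adj).unit.app F).hom.app U t)) = 0
    have : ((adj).unit.app F).hom.app U t ∈ fromSmall F ((EtFppf.a S).obj U.unop) :=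
      ⟨U.unop, 𝟙 _, t, by
        rw [op_id]
        exact ConcreteCategory.congr_hom (((π⁻¹).obj F).obj.map_id _) _⟩
    exact (congrArg _ ((quotMk_eq_zero_iff F _ _).2 this)).trans (map_zero _)
  have h0 : (toSheafify (J S) (quotPre F)).app (op C) (QuotientAddGroup.mk' _ s) =
      (toSheafify (J S) (quotPre F)).app (op C) 0 := by
    rw [map_zero]
    exact ConcreteCategory.congr_hom (congrArg (fun k => k.hom.app (op C)) hq) s
  obtain ⟨V, g, hR, hg, hx⟩ := (mem_J_iff C _).1
    (Presheaf.equalizerSieve_mem (J S) (toSheafify (J S) (quotPre F)) _ _ h0) x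
  refine ⟨V, g, hg, hx, ?_⟩
  have hR' : QuotientAddGroup.mk' (fromSmall F V) (((π⁻¹).obj F).obj.map g.op s) = 0 :=
    hR.trans (map_zero _)
  exact (QuotientAddGroup.eq_zero_iff _).1 hR'

end generation

/-- `π⁻¹ F` is determined by geometric points. -/
theorem isCart_piEtPull (F : EtCoh.Ab S) : IsCart ((π⁻¹).obj F) where
  sep C Ω _ _ ξ s hs := by
    obtain ⟨V, g, hg, ⟨y, hy⟩, U, v, t, ht⟩ := locally_fromSmall F C s (ξ.base default)
    obtain ⟨m, hm, -⟩ := Scheme.exists_fac_of_etale_of_isSepClosed g.left ξ y hy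
    let mm : ptObj C ξ ⟶ V := Over.homMk m
      ((congrArg (m ≫ ·) (Over.w g).symm).trans
        ((Category.assoc _ _ _).symm.trans (congrArg (· ≫ C.hom) hm)))
    have hmm : mm ≫ g = ptHom C ξ := Over.OverMorphism.ext hm
    let l : Over.mk (ξ ≫ C.hom) ⟶ (EtFppf.a S).obj U := mm ≫ v
    have hl : ((π⁻¹).obj F).obj.map l.op (((adj).unit.app F).hom.app (op U) t) = 0 := by
      show ((π⁻¹).obj F).obj.map (mm ≫ v).op _ = 0
      rw [op_comp, Functor.map_comp, ConcreteCategory.comp_apply, ht, ← ConcreteCategory.comp_apply,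
        ← Functor.map_comp, ← op_comp, hmm, hs]
    obtain ⟨W, j, w, hw, hz⟩ :=
      (germ_eq_zero_iff (ξ ≫ C.hom) F U l t).1 (germ_eq_zero_of_map _ F U l t hl)
    have : Etale j.left := inferInstance
    let P := pullback (show V.left ⟶ U.left from v.left) j.left
    let g' : Over.mk (pullback.fst (show V.left ⟶ U.left from v.left) j.left ≫ V.hom) ⟶ V :=
      Over.homMk (pullback.fst _ _)
    have hp : (show Spec (CommRingCat.of Ω) ⟶ V.left from m) ≫ v.left =
        (show Spec (CommRingCat.of Ω) ⟶ W.left from w.left) ≫ j.left :=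
      (congrArg (fun k => k.left) hw).symm
    refine ⟨_, g' ≫ g, ?_, ⟨(pullback.lift (show Spec (CommRingCat.of Ω) ⟶ V.left from m)
      (show Spec (CommRingCat.of Ω) ⟶ W.left from w.left) hp).base default, ?_⟩, ?_⟩
    · have : Etale g.left := hg
      show Etale (pullback.fst _ _ ≫ g.left)
      infer_instance
    · exact congrArg (fun k : Spec (CommRingCat.of Ω) ⟶ C.left => k.base default)
        ((pullback.lift_fst_assoc _ _ hp g.left).trans hm)
    · let q : Over.mk (pullback.fst (show V.left ⟶ U.left from v.left) j.left ≫ V.hom) ⟶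
          (EtFppf.a S).obj W := Over.homMk (pullback.snd _ _) (by
        show pullback.snd _ _ ≫ W.hom = _ ≫ V.hom
        rw [← Over.w v]
        have : (j.left : W.left ⟶ U.left) ≫ U.hom = W.hom := Over.w j.hom
        rw [← this]
        exact (pullback.condition_assoc _).symm)
      have hq : g' ≫ v = q ≫ (EtFppf.a S).map j := Over.OverMorphism.ext pullback.condition
      rw [op_comp, Functor.map_comp, ConcreteCategory.comp_apply, ← ht,
        ← ConcreteCategory.comp_apply, ← Functor.map_comp, ← op_comp, hq, op_comp,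
        Functor.map_comp, ConcreteCategory.comp_apply]
      refine (congrArg (((π⁻¹).obj F).obj.map q.op)
        ((NatTrans.naturality_apply ((adj).unit.app F).hom j.op t).symm.trans
          ((congrArg (((adj).unit.app F).hom.app _) hz).trans (map_zero _)))).trans (map_zero _)
  lift {Ω} _ _ ξ x := by
    obtain ⟨V, g, hg, ⟨y, hy⟩, U, v, t, ht⟩ := locally_fromSmall F (Over.mk ξ) x (default : Spec (CommRingCat.of Ω))
    obtain ⟨m, hm, -⟩ := Scheme.exists_fac_of_etale_of_isSepClosed g.left
      (𝟙 (Spec (CommRingCat.of Ω))) y hy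
    let mm : Over.mk ξ ⟶ V := Over.homMk m ((congrArg (m ≫ ·) (Over.w g).symm).trans
      ((Category.assoc _ _ _).symm.trans ((congrArg (· ≫ ξ) hm).trans (Category.id_comp _))))
    have hmm : mm ≫ g = 𝟙 _ := Over.OverMorphism.ext hm
    refine ⟨U, mm ≫ v, ((adj).unit.app F).hom.app (op U) t, ?_⟩
    rw [op_comp, Functor.map_comp, ConcreteCategory.comp_apply, ht, ← ConcreteCategory.comp_apply,
      ← Functor.map_comp, ← op_comp, hmm, op_id, CategoryTheory.Functor.map_id]
    rfl

lemma unit_counit (G : AbB S) (U : S.Etale) (t : G.obj.obj (op ((EtFppf.a S).obj U))) :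
    ((adj).counit.app G).hom.app _ (((adj).unit.app ((res).obj G)).hom.app (op U) t) = t :=
  ConcreteCategory.congr_hom
    (congrArg (fun k => k.hom.app (op U)) ((adj).right_triangle_components G)) t

/-- A sheaf determined by geometric points is the inverse image of its restriction. -/
theorem isIso_counit {G : AbB S} (hG : IsCart G) : IsIso ((adj).counit.app G) := by
  let ε := (adj).counit.app G
  have hM := isCart_piEtPull ((res).obj G)
  have hη := isIso_unit ((res).obj G)
  have inj : ∀ (C : Over S) a, ε.hom.app (op C) a = 0 → a = 0 := fun C a ha => by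
    refine hM.eq_zero a fun x => ?_
    let ξ := Groth.DescentBase.acPoint x
    obtain ⟨U, l, t, ht⟩ := hM.lift (ξ ≫ C.hom)
      (((π⁻¹).obj ((res).obj G)).obj.map (ptHom C ξ).op a)
    obtain ⟨t₀, rfl⟩ : ∃ t₀, ((adj).unit.app ((res).obj G)).hom.app (op U) t₀ = t :=
      (ConcreteCategory.bijective_of_isIso
        (((sheafToPresheaf _ _).map ((adj).unit.app ((res).obj G))).app (op U))).2 t
    have h0 : G.obj.map l.op t₀ = 0 := by
      have e := (NatTrans.naturality_apply ε.hom l.op _).symm.trans ((congrArg (ε.hom.app _) ht).trans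
        ((NatTrans.naturality_apply ε.hom (ptHom C ξ).op a).trans
          ((congrArg _ ha).trans (map_zero _))))
      exact (congrArg (G.obj.map l.op) (unit_counit G U t₀).symm).trans e
    have hgerm := hG.germ_eq_zero U l t₀ h0
    have h1 := map_eq_zero_of_germ ((π⁻¹).obj ((res).obj G)) U l
      (((adj).unit.app ((res).obj G)).hom.app (op U) t₀)
      ((germ_map _ ((adj).unit.app ((res).obj G)) U l t₀).symm.trans
        ((congrArg _ hgerm).trans (map_zero _)))
    exact ht.symm.trans h1
  have hmono : Mono ε := Sheaf.mono_of_injective ε fun C => by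
    rw [injective_iff_map_eq_zero]
    exact fun a ha => inj C.unop a ha
  have hsurj : Sheaf.IsLocallySurjective ε := ⟨fun {C} s => by
    rw [mem_J_iff]
    intro x
    let ξ := Groth.DescentBase.acPoint x
    obtain ⟨U, l, t₀, ht⟩ := hG.lift (ξ ≫ C.hom) (G.obj.map (ptHom C ξ).op s)
    let D : Over S := Over.mk (pullback.fst C.hom U.hom ≫ C.hom)
    let p : D ⟶ C := Over.homMk (pullback.fst _ _)
    let q : D ⟶ (EtFppf.a S).obj U := Over.homMk (pullback.snd _ _) pullback.condition.symm
    let ξ' : Spec (CommRingCat.of (AlgebraicClosure (C.left.residueField x))) ⟶ D.left :=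
      pullback.lift ξ l.left (Over.w l).symm
    let k : ptObj D ξ' ⟶ ptObj C ξ := Over.homMk (𝟙 _)
      ((Category.id_comp _).trans (pullback.lift_fst_assoc _ _ _ _).symm)
    have hp : ptHom D ξ' ≫ p = k ≫ ptHom C ξ :=
      Over.OverMorphism.ext ((pullback.lift_fst _ _ _).trans (Category.id_comp _).symm)
    have hq : ptHom D ξ' ≫ q = k ≫ l :=
      Over.OverMorphism.ext ((pullback.lift_snd _ _ _).trans (Category.id_comp _).symm)
    have hd : G.obj.map (ptHom D ξ').op (G.obj.map p.op s - G.obj.map q.op t₀) = 0 := by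
      rw [map_sub, ← ConcreteCategory.comp_apply, ← ConcreteCategory.comp_apply,
        ← Functor.map_comp, ← Functor.map_comp, ← op_comp, ← op_comp, hp, hq, op_comp, op_comp,
        Functor.map_comp, Functor.map_comp, ConcreteCategory.comp_apply,
        ConcreteCategory.comp_apply, ht, sub_self]
    obtain ⟨V, g, hg, ⟨y, hy⟩, hz⟩ := hG.sep D ξ' _ hd
    refine ⟨V, g ≫ p, ⟨((π⁻¹).obj ((res).obj G)).obj.map (g ≫ q).op
      (((adj).unit.app ((res).obj G)).hom.app (op U) t₀), ?_⟩, ?_, y, ?_⟩
    · rw [map_sub, sub_eq_zero] at hz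
      refine (NatTrans.naturality_apply ε.hom _ _).trans ?_
      refine (congrArg (G.obj.map _) (unit_counit G U t₀)).trans ?_
      rw [op_comp, Functor.map_comp, ConcreteCategory.comp_apply, ← hz, op_comp, Functor.map_comp,
        ConcreteCategory.comp_apply]
      rfl
    · have : Etale g.left := hg
      show Etale (g.left ≫ pullback.fst C.hom U.hom)
      infer_instance
    · show (g.left ≫ pullback.fst C.hom U.hom).base y = x
      rw [Scheme.Hom.comp_apply, hy, ← Scheme.Hom.comp_apply, pullback.lift_fst]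
      exact Groth.DescentBase.acPoint_apply x _⟩
  have : Epi ε := inferInstance
  exact isIso_of_mono_of_epi ε

/-- A sheaf determined by geometric points is the inverse image of its restriction. -/
noncomputable def isoOfIsCart {G : AbB S} (hG : IsCart G) : (π⁻¹).obj ((res).obj G) ≅ G :=
  haveI := isIso_counit hG
  asIso ((adj).counit.app G)

end Groth.DescentBase.BigCart
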