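import Groth.Agent.DescentBase.BigCart.AnyTop
import Groth.Agent.DescentBase.BigCart.Push
import Groth.Agent.SiteCohomology.BigCartPush
import Groth.Agent.SiteCohomology.BigRpush

/-!
# Direct images along proper morphisms commute with inverse images to big sites
-/

set_option autoImplicit false
set_option backward.isDefEq.respectTransparency.types false

universe u

open CategoryTheory CategoryTheory.Limits AlgebraicGeometry Opposite

namespace Groth.DescentBase.BigCart

variable {S T : Scheme.{u}}

/-- The underlying big étale sheaf of sets. -/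
noncomputable def toSets (G : AbB S) : Groth.SiteCohomology.BigCartSet.Bg S :=
  (sheafCompose _ (forget AddCommGrpCat.{u + 1})).obj G

/-- `IsCart` of the underlying sheaf of sets. -/
lemma IsCart.toSets {G : AbB S} (hG : IsCart G) : Groth.SiteCohomology.BigCartSet.IsCart (BigCart.toSets G) where
  sep C Ω _ _ ξ s t h := by
    let q : Spec (CommRingCat.of (AlgebraicClosure Ω)) ⟶ Spec (CommRingCat.of Ω) :=
      Spec.map (CommRingCat.ofHom (algebraMap Ω (AlgebraicClosure Ω)))
    let ξ' := q ≫ ξ
    let j : ptObj C ξ' ⟶ ptObj C ξ := Over.homMk q (Category.assoc _ _ _).symm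
    have hj : ptHom C ξ' = j ≫ ptHom C ξ := Over.OverMorphism.ext rfl
    obtain ⟨V, g, hg, hx, h0⟩ := hG.sep C ξ' ((show G.obj.obj (op C) from s) - (show G.obj.obj (op C) from t)) (by
      rw [hj, op_comp, Functor.map_comp, ConcreteCategory.comp_apply, map_sub]
      refine (congrArg _ (sub_eq_zero.2 ?_)).trans (map_zero _)
      exact h)
    refine ⟨V, g, hg, ?_, ?_⟩
    · rw [show ξ.base default = ξ'.base default from ?_]
      · exact hx
      · show ξ.base default = ξ.base (q.base default)
        rw [Subsingleton.elim (q.base default) default]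
    · rw [map_sub] at h0
      exact (sub_eq_zero (G := G.obj.obj (op V))).1 h0
  lift ξ x := hG.lift ξ x

/-- `IsCart` from the underlying sheaf of sets. -/
lemma IsCart.of_toSets {G : AbB S} (hG : Groth.SiteCohomology.BigCartSet.IsCart (BigCart.toSets G)) : IsCart G where
  sep C Ω _ _ ξ s h := by
    let z : G.obj.obj (op C) := 0
    obtain ⟨V, g, hg, hx, h0⟩ := hG.sep C ξ s z
      (h.trans (map_zero (G.obj.map (ptHom C ξ).op).hom).symm)
    exact ⟨V, g, hg, hx, (h0 : G.obj.map g.op s = G.obj.map g.op 0).trans (map_zero (G.obj.map g.op).hom)⟩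
  lift ξ x := hG.lift ξ x

variable (f : T ⟶ S)

/-- Direct image along a proper morphism keeps `IsCart`. -/
theorem IsCart.pushBigProper [IsProper f] {H : AbB T} (hH : IsCart H) :
    IsCart ((BigSite.pushBig Scheme.etalePrecoverage f AddCommGrpCat.{u + 1}).obj H) := by
  apply IsCart.of_toSets
  exact ⟨fun C _ _ _ ξ s t h => hH.toSets.push f |>.sep C ξ s t h, fun ξ x => hH.toSets.push f |>.lift ξ x⟩

/-- `π⁻¹ f_* ≅ f_big,* π⁻¹` for proper morphisms. -/
theorem nonempty_piEtPull_push_iso_proper [IsProper f] (F : EtCoh.Ab T) :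
    Nonempty ((BigSite.piEtPull Scheme.etalePrecoverage S).obj ((EtCoh.push f).obj F) ≅
      (BigSite.pushBig Scheme.etalePrecoverage f AddCommGrpCat.{u + 1}).obj
        ((BigSite.piEtPull Scheme.etalePrecoverage T).obj F)) := by
  have h := IsCart.pushBigProper f (isCart_piEtPull F)
  obtain ⟨e⟩ := Groth.SiteCohomology.nonempty_pushBig_resEt_iso f
  have := isIso_unit F
  exact ⟨(BigSite.piEtPull Scheme.etalePrecoverage S).mapIso
    ((EtCoh.push f).mapIso (asIso ((BigSite.piEtAdj Scheme.etalePrecoverage T).unit.app F)) ≪≫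
      (e.app _).symm) ≪≫ isoOfIsCart h⟩

namespace AnyTop

variable (KS : GrothendieckTopology (Over S)) (KT : GrothendieckTopology (Over T))
  [(EtFppf.a S).IsContinuous S.smallEtaleTopology KS] [(EtFppf.a T).IsContinuous T.smallEtaleTopology KT]
  [(Over.pullback f).IsContinuous KS KT]

/-- The same on any finer pair of topologies. -/
theorem nonempty_pull_push_iso_proper (leS : J S ≤ KS) (leT : J T ≤ KT)
    (hS : ∀ {G : AbB S}, IsCart G → Presheaf.IsSheaf KS G.obj)
    (hT : ∀ {G : AbB T}, IsCart G → Presheaf.IsSheaf KT G.obj) [IsProper f] (F : EtCoh.Ab T) :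
    Nonempty (((EtFppf.a S).sheafPullback AddCommGrpCat.{u + 1} S.smallEtaleTopology KS).obj
        ((EtCoh.push f).obj F) ≅
      ((Over.pullback f).sheafPushforwardContinuous AddCommGrpCat.{u + 1} KS KT).obj
        (((EtFppf.a T).sheafPullback AddCommGrpCat.{u + 1} T.smallEtaleTopology KT).obj F)) := by
  obtain ⟨e⟩ := nonempty_piEtPull_push_iso_proper f F
  let e' : piT KS hS ((EtCoh.push f).obj F) ≅
      ((Over.pullback f).sheafPushforwardContinuous AddCommGrpCat.{u + 1} KS KT).obj (piT KT hT F) :=
    { hom := ⟨e.hom.hom⟩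
      inv := ⟨e.inv.hom⟩
      hom_inv_id := Sheaf.hom_ext (congrArg (fun k => k.hom) e.hom_inv_id :)
      inv_hom_id := Sheaf.hom_ext (congrArg (fun k => k.hom) e.inv_hom_id :) }
  exact ⟨pullIso KS leS hS _ ≪≫ e' ≪≫
    (((Over.pullback f).sheafPushforwardContinuous AddCommGrpCat.{u + 1} KS KT).mapIso
      (pullIso KT leT hT F)).symm⟩

end AnyTop

end Groth.DescentBase.BigCart
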