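import Groth.Agent.DescentBase.BigCart.Adm
import Groth.Agent.DescentBase.QuasiSect.Scheme
import Mathlib.AlgebraicGeometry.Limits

/-!
# Universally open surjections are coverings for étale coverings and finite surjections
-/

set_option autoImplicit false
set_option linter.style.haveILetI false
set_option maxHeartbeats 1000000
universe u

open CategoryTheory CategoryTheory.Limits AlgebraicGeometry

namespace Groth.DescentBase.BigCart

lemma mem_finEt_of_locally {Y : Scheme.{u}} (R : Sieve Y)
    (h : ∀ y : Y, ∃ (V : Scheme.{u}) (v : V ⟶ Y), IsOpenImmersion v ∧ y ∈ Set.range v.base ∧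
      R.pullback v ∈ finEtPrecoverage.toGrothendieck V) : R ∈ finEtPrecoverage.toGrothendieck Y := by
  choose V v hv hy hR using h
  have hS : Presieve.ofArrows V v ∈ finEtPrecoverage Y := Or.inl
    (AlgebraicGeometry.Scheme.Cover.mkOfCovers (P := @Etale) Y V v (fun y => ⟨y, hy y⟩)
      fun y => haveI := hv y; (inferInstance : Etale (v y))).mem₀
  refine (finEtPrecoverage.toGrothendieck).transitive (Precoverage.generate_mem_toGrothendieck hS) R ?_
  rintro Z g ⟨W, a, b, hb, rfl⟩
  obtain ⟨y⟩ := hb
  rw [Sieve.pullback_comp]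
  exact (finEtPrecoverage.toGrothendieck).pullback_stable a (hR y)

lemma mem_finEt_of_finite {Y W : Scheme.{u}} (R : Sieve Y) (w : W ⟶ Y) [IsFinite w] [Surjective w]
    (h : R.pullback w ∈ finEtPrecoverage.toGrothendieck W) : R ∈ finEtPrecoverage.toGrothendieck Y := by
  refine (finEtPrecoverage.toGrothendieck).transitive
    (Precoverage.generate_mem_toGrothendieck (singleton_mem_finEt w)) R ?_
  rintro Z g ⟨W', a, b, hb, rfl⟩
  cases hb
  rw [Sieve.pullback_comp]
  exact (finEtPrecoverage.toGrothendieck).pullback_stable a h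

lemma pullback_mem_finEt_of_factor {X Y V : Scheme.{u}} (f : X ⟶ Y) (v : V ⟶ Y) (m : V ⟶ X)
    (h : m ≫ f = v) : (Sieve.generate (Presieve.singleton f)).pullback v ∈ finEtPrecoverage.toGrothendieck V := by
  rw [Sieve.pullback_eq_top_of_mem (Sieve.generate (Presieve.singleton f))
    (show (Sieve.generate (Presieve.singleton f)) v from ⟨X, m, f, Presieve.singleton_self f, h⟩)]
  exact (finEtPrecoverage.toGrothendieck).top_mem V

lemma mem_finEt_of_pullback {X Y V : Scheme.{u}} (f : X ⟶ Y) (v : V ⟶ Y)
    (h : Sieve.generate (Presieve.singleton (pullback.snd f v)) ∈ finEtPrecoverage.toGrothendieck V) :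
    (Sieve.generate (Presieve.singleton f)).pullback v ∈ finEtPrecoverage.toGrothendieck V := by
  refine (finEtPrecoverage.toGrothendieck).superset_covering ?_ h
  rintro Z g ⟨W, a, b, hb, rfl⟩
  cases hb
  exact ⟨X, a ≫ pullback.fst f v, f, Presieve.singleton_self f, by
    rw [Category.assoc, pullback.condition, Category.assoc]⟩

theorem generate_mem_finEt_of_domain {A : CommRingCat.{u}} [IsNoetherianRing A] [IsDomain A]
    {X : Scheme.{u}} (f : X ⟶ Spec A) [LocallyOfFiniteType f] [Surjective f] [UniversallyOpen f] :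
    Sieve.generate (Presieve.singleton f) ∈ finEtPrecoverage.toGrothendieck (Spec A) := by
  refine mem_finEt_of_locally _ fun p => ?_
  obtain ⟨U, W, w, hp, hw, hs, hcov⟩ := QuasiSect.exists_local_cover f p
  refine ⟨_, U.ι, inferInstance, ⟨⟨p, hp⟩, rfl⟩, ?_⟩
  let w' := pullback.snd w U.ι
  haveI := hw
  haveI := hs
  haveI : IsFinite w' := inferInstanceAs (IsFinite (pullback.snd w U.ι))
  haveI : Surjective w' := inferInstanceAs (Surjective (pullback.snd w U.ι))
  refine mem_finEt_of_finite _ w' ?_
  rw [← Sieve.pullback_comp]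
  refine mem_finEt_of_locally _ fun b => ?_
  have hbU : w.base ((pullback.fst w U.ι).base b) ∈ U := by
    have e : (pullback.fst w U.ι ≫ w).base b = (w' ≫ U.ι).base b := by rw [pullback.condition]
    exact (e.trans rfl).symm ▸ ((w'.base b).2 : (w'.base b).1 ∈ U)
  obtain ⟨V, v, hv, hbv, m, hm⟩ := hcov _ hbU
  haveI := hv
  let v' := pullback.fst (pullback.fst w U.ι) v
  refine ⟨_, v', inferInstance, ?_, ?_⟩
  · obtain ⟨c, hc⟩ := hbv
    obtain ⟨z, hz, -⟩ := Scheme.Pullback.exists_preimage_pullback (f := pullback.fst w U.ι) (g := v) b c hc.symm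
    exact ⟨z, hz⟩
  · rw [← Sieve.pullback_comp]
    refine pullback_mem_finEt_of_factor f _ (pullback.snd (pullback.fst w U.ι) v ≫ m) ?_
    rw [Category.assoc, hm, ← pullback.condition_assoc (f := pullback.fst w U.ι) (g := v)]
    exact congrArg (v' ≫ ·) pullback.condition

theorem generate_mem_finEt_of_affine {A : CommRingCat.{u}} [IsNoetherianRing A] {X : Scheme.{u}}
    (f : X ⟶ Spec A) [LocallyOfFiniteType f] [Surjective f] [UniversallyOpen f] :
    Sieve.generate (Presieve.singleton f) ∈ finEtPrecoverage.toGrothendieck (Spec A) := by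
  haveI : Finite (minimalPrimes A) := (minimalPrimes.finite_of_isNoetherianRing A).to_subtype
  let R : minimalPrimes A → CommRingCat.{u} := fun p => CommRingCat.of (A ⧸ p.1)
  let q : A →+* ∀ p : minimalPrimes A, A ⧸ p.1 := Pi.ringHom fun p => Ideal.Quotient.mk p.1
  let w : Spec (CommRingCat.of (∀ p, R p)) ⟶ Spec A := Spec.map (CommRingCat.ofHom q)
  haveI : IsFinite w := (IsFinite.SpecMap_iff _).2 (by
    have h : q = algebraMap A (∀ p : minimalPrimes A, A ⧸ p.1) := rfl
    show q.Finite
    rw [h]
    exact RingHom.finite_algebraMap.2 inferInstance)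
  have hsurj : Surjective w := ⟨fun x => by
    haveI := x.isPrime
    obtain ⟨p, hp, hpx⟩ := Ideal.exists_minimalPrimes_le (bot_le : (⊥ : Ideal A) ≤ x.asIdeal)
    let ev := Pi.evalRingHom (fun p => R p) (⟨p, hp⟩ : minimalPrimes A)
    let y : PrimeSpectrum (A ⧸ p) := ⟨x.asIdeal.map (Ideal.Quotient.mk p),
      Ideal.map_isPrime_of_surjective Ideal.Quotient.mk_surjective (by rwa [Ideal.mk_ker])⟩
    refine ⟨PrimeSpectrum.comap ev y, PrimeSpectrum.ext ?_⟩
    show (x.asIdeal.map (Ideal.Quotient.mk p)).comap (Ideal.Quotient.mk p) = x.asIdeal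
    rw [Ideal.comap_map_of_surjective _ Ideal.Quotient.mk_surjective, ← RingHom.ker_eq_comap_bot, Ideal.mk_ker]
    exact sup_eq_left.2 hpx⟩
  refine mem_finEt_of_finite _ w (mem_finEt_of_locally _ fun b => ?_)
  obtain ⟨c, rfl⟩ := (sigmaSpec R).surjective b
  obtain ⟨p, d, rfl⟩ := (sigmaOpenCover fun p => Spec (R p)).exists_eq c
  let v : Spec (R p) ⟶ Spec (CommRingCat.of (∀ p, R p)) := Sigma.ι (fun p => Spec (R p)) p ≫ sigmaSpec R
  refine ⟨_, v, inferInstance, ⟨d, rfl⟩, ?_⟩
  rw [← Sieve.pullback_comp]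
  haveI : p.1.IsPrime := p.2.1.1
  haveI : IsDomain (R p) := inferInstanceAs (IsDomain (A ⧸ p.1))
  haveI : IsNoetherianRing (R p) := inferInstanceAs (IsNoetherianRing (A ⧸ p.1))
  haveI : UniversallyOpen (pullback.snd f (v ≫ w)) := inferInstance
  exact mem_finEt_of_pullback f _ (generate_mem_finEt_of_domain (pullback.snd f (v ≫ w)))

/-- A universally open surjection locally of finite type over a locally Noetherian base is a
covering for the topology generated by étale coverings and finite surjective morphisms. -/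
theorem generate_mem_finEt {X Y : Scheme.{u}} [IsLocallyNoetherian Y] (f : X ⟶ Y)
    [LocallyOfFiniteType f] [Surjective f] [UniversallyOpen f] :
    Sieve.generate (Presieve.singleton f) ∈ finEtPrecoverage.toGrothendieck Y := by
  refine mem_finEt_of_locally _ fun y => ?_
  obtain ⟨V, hV, hy, -⟩ := exists_isAffineOpen_mem_and_subset (U := (⊤ : Y.Opens)) (x := y) trivial
  haveI : IsNoetherianRing Γ(Y, V) := IsLocallyNoetherian.component_noetherian ⟨V, hV⟩
  refine ⟨_, hV.fromSpec, inferInstance, hV.range_fromSpec.ge hy, ?_⟩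
  exact mem_finEt_of_pullback f _ (generate_mem_finEt_of_affine (pullback.snd f hV.fromSpec))

end Groth.DescentBase.BigCart
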