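import Groth.Agent.DescentBase.BigCart.EpsBasic

/-!
# Vanishing of the higher derived functors of the comparison with the étale topology
-/

set_option autoImplicit false
set_option backward.isDefEq.respectTransparency.types false
set_option maxHeartbeats 1000000

universe u

open CategoryTheory CategoryTheory.Limits AlgebraicGeometry Opposite

namespace Groth.DescentBase.BigCart

variable (K : Precoverage Scheme.{u}) [Adm K]

/-- The vanishing in degrees `1, ..., n`. -/
def VanishUpTo (n : ℕ) : Prop :=
  ∀ (S : Scheme.{u}) (M : BigSite.Ab K S), IsCart ((epsK K S).obj M) →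
    ∀ j, 1 ≤ j → j ≤ n → IsZero (((epsK K S).rightDerived j).obj M)

variable {S T : Scheme.{u}}

lemma injective_app_of_mono {G H : AbB S} (φ : G ⟶ H) [Mono φ] (C : (Over S)ᵒᵖ) :
    Function.Injective (φ.hom.app C) := by
  have : PreservesLimitsOfSize.{0, 0} (sheafToPresheaf (J S) AddCommGrpCat.{u + 1}) :=
    (sheafificationAdjunction (J S) AddCommGrpCat.{u + 1}).rightAdjoint_preservesLimits
  have : Mono ((sheafToPresheaf (J S) AddCommGrpCat.{u + 1}).map φ) := inferInstance
  have : Mono (φ.hom.app C) := (NatTrans.mono_iff_mono_app _).1 this C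
  exact (AddCommGrpCat.mono_iff_injective _).1 this

lemma isZero_RpushK (f : T ⟶ S) [IsFinite f] {n : ℕ} (hn : VanishUpTo K n) {M : BigSite.Ab K T}
    (hM : IsCart ((epsK K T).obj M)) (j : ℕ) (h1 : 1 ≤ j) (h2 : j ≤ n) :
    IsZero (((pushK K f).rightDerived j).obj M) := by
  have := preservesFiniteColimits_pushE f
  have : (pushE f).Additive := inferInstance
  obtain ⟨a⟩ := Groth.SiteCohomology.nonempty_rightDerived_comp_exact (pushK K f ⋙ epsK K S) (shK K S)
    (pushK K f) ((Functor.rightUnitor _).symm ≪≫ Functor.isoWhiskerLeft (pushK K f) (shIso K S).symm ≪≫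
      (Functor.associator _ _ _).symm) M j
  obtain ⟨b⟩ := Groth.SiteCohomology.nonempty_rightDerived_comp_exact (epsK K T) (pushE f)
    (pushK K f ⋙ epsK K S) (epsPushIso K f) M j
  exact (((shK K S).map_isZero (((pushE f).map_isZero (hn T M hM j h1 h2)).of_iso b))).of_iso a

/-- `R^{n+1}ε M` embeds into a direct image along any finite surjective morphism. -/
lemma exists_mono_to_push (f : T ⟶ S) [IsFinite f] [Surjective f] {n : ℕ} (hn : VanishUpTo K n)
    {M : BigSite.Ab K S} (hM : IsCart ((epsK K S).obj M)) :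
    ∃ (L' : AbB T) (Φ : ((epsK K S).rightDerived (n + 1)).obj M ⟶ (pushE f).obj L'), Mono Φ := by
  obtain ⟨Q, v, w, hZ, hQ, hv⟩ := exists_unit_ses K f hM
  have hm₁ : Mono (((epsK K S).rightDerived (n + 1)).map (unitK K f M)) := by
    cases n with
    | zero =>
      have : Epi ((epsK K S).map (ShortComplex.mk (unitK K f M) v w).g) := hv
      exact mono_rightDerived_one_map (epsK K S) hZ
    | succ m =>
      have : Epi (((epsK K S).rightDerived (m + 1)).map (ShortComplex.mk (unitK K f M) v w).g) :=
        ⟨fun _ _ _ => (hn S Q hQ (m + 1) (by omega) le_rfl).eq_of_src _ _⟩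
      exact mono_rightDerived_succ_map (epsK K S) hZ (m + 1)
  let M' := (pullK K f).obj M
  have hM' : IsCart ((epsK K T).obj M') := hM.pullBig f
  obtain ⟨m, hm⟩ := exists_mono_rightDerived_comp (pushK K f) (epsK K S)
    (fun I _ => injective_pushK K f I) n M' (fun j h1 h2 => isZero_RpushK K f hn hM' j h1 h2)
  have := preservesFiniteColimits_pushE f
  obtain ⟨b⟩ := Groth.SiteCohomology.nonempty_rightDerived_comp_exact (epsK K T) (pushE f)
    (pushK K f ⋙ epsK K S) (epsPushIso K f) M' (n + 1)
  exact ⟨_, ((epsK K S).rightDerived (n + 1)).map (unitK K f M) ≫ m ≫ b.hom,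
    @mono_comp _ _ _ _ _ _ hm₁ _ (@mono_comp _ _ _ _ _ _ hm _ inferInstance)⟩

lemma eq_zero_of_res_finite (f : T ⟶ S) [IsFinite f] [Surjective f] {L : AbB S} {L' : AbB T}
    (Φ : L ⟶ (pushE f).obj L') [Mono Φ] (s : L.obj.obj (op (Over.mk (𝟙 S))))
    (h : L.obj.map (Over.homMk (U := Over.mk f) (V := Over.mk (𝟙 S)) f (Category.comp_id f)).op s = 0) :
    s = 0 := by
  let g : Over.mk f ⟶ Over.mk (𝟙 S) := Over.homMk f (Category.comp_id f)
  let t : L'.obj.obj (op ((Over.pullback f).obj (Over.mk (𝟙 S)))) := Φ.hom.app _ s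
  have h1 : L'.obj.map ((Over.pullback f).map g).op t = 0 :=
    (ConcreteCategory.congr_hom (Φ.hom.naturality g.op) s).symm.trans
      ((congrArg (Φ.hom.app _) h).trans (map_zero _))
  let δ : (Over.pullback f).obj (Over.mk (𝟙 S)) ⟶ (Over.pullback f).obj (Over.mk f) :=
    Over.homMk (pullback.lift (pullback.snd (𝟙 S) f) (pullback.snd (𝟙 S) f) rfl) (pullback.lift_snd _ _ _)
  have hδ : δ ≫ (Over.pullback f).map g = 𝟙 _ := by
    apply Over.OverMorphism.ext
    show pullback.lift (pullback.snd (𝟙 S) f) (pullback.snd (𝟙 S) f) _ ≫ ((Over.pullback f).map g).left =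
      𝟙 (pullback (𝟙 S) f)
    apply pullback.hom_ext
    · refine (Category.assoc _ _ _).trans ((congrArg (_ ≫ ·) (pullback.lift_fst _ _ _)).trans ?_)
      refine (pullback.lift_fst_assoc _ _ _ _).trans ?_
      rw [Category.id_comp]
      exact pullback.condition.symm.trans (Category.comp_id _)
    · refine (Category.assoc _ _ _).trans ((congrArg (_ ≫ ·) (pullback.lift_snd _ _ _)).trans ?_)
      exact (pullback.lift_snd _ _ _).trans (Category.id_comp _).symm
  have h2 : t = 0 := by
    have e : L'.obj.map ((δ ≫ (Over.pullback f).map g)).op t = 0 := by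
      rw [op_comp, Functor.map_comp, ConcreteCategory.comp_apply, h1, map_zero]
    rw [hδ, op_id, CategoryTheory.Functor.map_id] at e
    exact e
  exact injective_app_of_mono Φ (op (Over.mk (𝟙 S))) (h2.trans (map_zero _).symm)

/-- The higher derived functors commute with localisation. -/
lemma nonempty_pullE_Reps (f : T ⟶ S) (M : BigSite.Ab K S) (q : ℕ) :
    Nonempty ((pullE f).obj (((epsK K S).rightDerived q).obj M) ≅
      ((epsK K T).rightDerived q).obj ((pullK K f).obj M)) := by
  obtain ⟨a⟩ := Groth.SiteCohomology.nonempty_rightDerived_comp_exact (epsK K S) (pullE f)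
    (pullK K f ⋙ epsK K T) (epsPullIso K f) M q
  obtain ⟨b⟩ := Groth.SiteCohomology.nonempty_rightDerived_comp_of_acyclic (pullK K f) (epsK K T)
    (fun I hI => @Groth.SiteCohomology.injective_pullBig _ K _ f I hI) M
    (fun k => Groth.SiteCohomology.isZero_rightDerived_succ_of_exact _ M k) q
  exact ⟨a.symm ≪≫ b.symm⟩

lemma finInj_Reps {n : ℕ} (hn : VanishUpTo K n) {M : BigSite.Ab K S}
    (hM : IsCart ((epsK K S).obj M)) : FinInj (((epsK K S).rightDerived (n + 1)).obj M) := by
  intro C D g hg hgs s hs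
  let L := ((epsK K S).rightDerived (n + 1)).obj M
  obtain ⟨e⟩ := nonempty_pullE_Reps K C.hom M (n + 1)
  obtain ⟨L', Φ, hΦ⟩ := exists_mono_to_push K g.left hn (M := (pullK K C.hom).obj M) (hM.pullBig C.hom)
  let j : (Over.map C.hom).obj (Over.mk (𝟙 C.left)) ⟶ C :=
    Over.homMk (𝟙 _) rfl
  let j' : C ⟶ (Over.map C.hom).obj (Over.mk (𝟙 C.left)) :=
    Over.homMk (𝟙 _) ((Category.id_comp _).trans (Category.id_comp _))
  have hj : j' ≫ j = 𝟙 C := Over.OverMorphism.ext (Category.id_comp _)
  let σ := e.hom.hom.app (op (Over.mk (𝟙 C.left))) (L.obj.map j.op s)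
  let g' : Over.mk g.left ⟶ Over.mk (𝟙 C.left) := Over.homMk g.left (Category.comp_id _)
  let k : (Over.map C.hom).obj (Over.mk g.left) ⟶ D := Over.homMk (𝟙 _)
    ((Category.id_comp _).trans (Over.w g).symm)
  have hk : (Over.map C.hom).map g' ≫ j = k ≫ g :=
    Over.OverMorphism.ext ((Category.comp_id _).trans (Category.id_comp _).symm)
  have h0 : L.obj.map ((Over.map C.hom).map g').op (L.obj.map j.op s) = 0 := by
    rw [← ConcreteCategory.comp_apply, ← Functor.map_comp, ← op_comp, hk, op_comp, Functor.map_comp,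
      ConcreteCategory.comp_apply]
    exact (congrArg (L.obj.map k.op) hs).trans (map_zero _)
  have hσ : σ = 0 := eq_zero_of_res_finite g.left Φ σ
    ((ConcreteCategory.congr_hom (e.hom.hom.naturality g'.op) (L.obj.map j.op s)).symm.trans
      ((congrArg (e.hom.hom.app _) h0).trans (map_zero _)))
  have h2 : L.obj.map j.op s = 0 := by
    refine injective_app_of_mono e.hom (op (Over.mk (𝟙 C.left))) ?_
    exact hσ.trans (map_zero _).symm
  have h3 : L.obj.map (j' ≫ j).op s = 0 := by
    rw [op_comp, Functor.map_comp, ConcreteCategory.comp_apply, h2, map_zero]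
  rw [hj, op_id, CategoryTheory.Functor.map_id] at h3
  exact h3

lemma isZero_of_shK_isZero {L : AbB S} (hL : FinInj L) (h : IsZero ((shK K S).obj L)) : IsZero L := by
  have h0 : toSheafify (QuotSh.J K S) L.obj = 0 :=
    ((sheafToPresheaf _ _).map_isZero h).eq_of_tgt _ _
  rw [IsZero.iff_id_eq_zero]
  refine Sheaf.hom_ext (NatTrans.ext (funext fun C => AddCommGrpCat.ext fun x => ?_))
  refine Adm.sep (K := K) hL C.unop (Presheaf.equalizerSieve (F := L.obj) x 0)
    (Presheaf.equalizerSieve_mem (QuotSh.J K S) (toSheafify (QuotSh.J K S) L.obj) x 0 ?_) x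
    fun V g hg => (hg : L.obj.map g.op x = L.obj.map g.op 0).trans (map_zero _)
  rw [h0]
  rfl

theorem vanishUpTo (n : ℕ) : VanishUpTo K n := by
  induction n with
  | zero => exact fun S M _ j h1 h2 => absurd h1 (by omega)
  | succ n ih =>
    intro S M hM j h1 h2
    rcases Nat.lt_or_ge j (n + 1) with h | h
    · exact ih S M hM j h1 (by omega)
    obtain rfl : j = n + 1 := by omega
    refine isZero_of_shK_isZero K (finInj_Reps K ih hM) ?_
    obtain ⟨a⟩ := Groth.SiteCohomology.nonempty_rightDerived_comp_exact (epsK K S) (shK K S)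
      (𝟭 (BigSite.Ab K S)) (shIso K S).symm M (n + 1)
    exact (Groth.SiteCohomology.isZero_rightDerived_succ_of_exact _ M n).of_iso a.symm

/-- Sheaves determined by geometric points have no higher derived images on the étale site. -/
theorem isZero_Reps {M : BigSite.Ab K S} (hM : IsCart ((epsK K S).obj M)) (q : ℕ) (hq : 0 < q) :
    IsZero (((epsK K S).rightDerived q).obj M) :=
  vanishUpTo K q S M hM q hq le_rfl

/-- Sheaves determined by geometric points are acyclic for the comparison functor. -/
theorem rightAcyclic_epsK {M : BigSite.Ab K S} (hM : IsCart ((epsK K S).obj M)) :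
    CohFin.RightAcyclic (epsK K S) M := fun j => isZero_Reps K hM (j + 1) (Nat.succ_pos j)

end Groth.DescentBase.BigCart
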